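import Groth.Agent.PullFlat.Flat
import Mathlib.Algebra.Category.ModuleCat.Sheaf.PullbackFree
import Groth.Prelude.Def_AlgSpPerf

/-!
# The inverse image of the structure sheaf
-/

set_option autoImplicit false
set_option linter.style.haveILetI false
set_option linter.unusedSectionVars false

universe u

open CategoryTheory Limits Opposite

noncomputable section

namespace Groth.Agent.PullFlat

open Groth.Agent.ModTensor

variable {C D : Type u} [SmallCategory C] [SmallCategory D] {J : GrothendieckTopology C}
  {K : GrothendieckTopology D} {O_C : Sheaf J CommRingCat.{u}} {O_D : Sheaf K CommRingCat.{u}}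
  (f : ModSite.RMor O_C O_D)

/-- The comparison of the inverse image of the structure sheaf with the structure sheaf. -/
abbrev unitCmp : f.pull.obj (ModSite.unit O_D) ⟶ ModSite.unit O_C :=
  SheafOfModules.pullbackObjUnitToUnit f.sharpR

theorem unitCmp_gen {W : C} (V : D) (ψ : W ⟶ f.fn.obj V) (r : O_D.obj.obj (op V)) :
    lin ((preFunctor O_C).map (unitCmp f)) (op W) (gen f (ModSite.unit O_D) V ψ r) = shRes f ψ r := by
  refine (lin_res ((preFunctor O_C).map (unitCmp f)) ψ.op _).trans ?_
  have h : f.adj.homEquiv _ _ (unitCmp f) = SheafOfModules.unitToPushforwardObjUnit f.sharpR :=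
    Equiv.apply_symm_apply _ _
  rw [f.adj.homEquiv_unit] at h
  exact congrArg (res (pre O_C (ModSite.unit O_C)) ψ.op) (congr(($h).val.app (op V) r))

/-- The inverse image of the structure sheaf is the structure sheaf. -/
theorem isIso_unitCmp : IsIso (unitCmp f) := by
  classical
  haveI : Mono (unitCmp f) := by
    haveI : Mono ((SheafOfModules.forget (ModSite.ringSh O_C)).map (unitCmp f)) :=
      PresheafOfModules.mono_of_injective fun {X} a b hab => by
        obtain ⟨U⟩ := X
        refine sub_eq_zero.1 (eq_zero_of_loc _ (a - b) ?_)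
        refine Loc.bind (loc_exists_gen f (ModSite.unit O_D) (fun _ : PUnit.{1} => a - b)) fun W g hg => ?_
        obtain ⟨V, ψ, n, x, E, hE⟩ := hg
        refine Loc.of_forall fun W' k => ?_
        rw [op_comp, res_comp, hE PUnit.unit]
        refine (congrArg (res (pre O_C _) k.op) ?_).trans (map_zero (res (pre O_C _) k.op))
        have h1 : ∀ i, gen f (ModSite.unit O_D) V ψ (x i) =
            shRes f ψ (x i) • gen f (ModSite.unit O_D) V ψ (1 : O_D.obj.obj (op V)) := fun i => by
          rw [← gen_smul]
          exact congrArg (gen f (ModSite.unit O_D) V ψ) (mul_one (show O_D.obj.obj (op V) from x i)).symm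
        have h2 : lin ((preFunctor O_C).map (unitCmp f)) (op W) (∑ i, E PUnit.unit i • gen f _ V ψ (x i)) = 0 := by
          rw [← hE PUnit.unit, lin_res, map_sub, show lin ((preFunctor O_C).map (unitCmp f)) (op U) a =
            lin ((preFunctor O_C).map (unitCmp f)) (op U) b from hab, sub_self, map_zero]
        simp only [map_sum, map_smul, unitCmp_gen] at h2
        simp only [h1, smul_smul, ← Finset.sum_smul]
        have h3 : ∑ i, E PUnit.unit i * shRes f ψ (x i) = (0 : O_C.obj.obj (op W)) := h2
        rw [h3, zero_smul]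
    exact (SheafOfModules.forget (ModSite.ringSh O_C)).mono_of_mono_map inferInstance
  haveI : Epi (unitCmp f) := by
    haveI : Sheaf.IsLocallySurjective ((SheafOfModules.toSheaf (ModSite.ringSh O_C)).map (unitCmp f)) := by
      refine ⟨fun {U} s => ?_⟩
      obtain ⟨S, hS, h⟩ := exists_cover_obj J K f.fn U
      refine J.superset_covering (fun W g hg => ?_) hS
      obtain ⟨V, ⟨ψ⟩⟩ := h g hg
      let c : O_C.obj.obj (op W) := res (pre O_C (ModSite.unit O_C)) g.op s
      refine ⟨c • gen f (ModSite.unit O_D) V ψ (1 : O_D.obj.obj (op V)), ?_⟩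
      refine (map_smul (lin ((preFunctor O_C).map (unitCmp f)) (op W)) c _).trans ?_
      rw [unitCmp_gen, map_one]
      exact mul_one c
    haveI : Epi ((SheafOfModules.toSheaf (ModSite.ringSh O_C)).map (unitCmp f)) :=
      (Sheaf.isLocallySurjective_iff_epi' AddCommGrpCat.{u} _).1 inferInstance
    exact (SheafOfModules.toSheaf (ModSite.ringSh O_C)).epi_of_epi_map inferInstance
  exact isIso_of_mono_of_epi _

/-- The inverse image of a free module is free. -/
def pullFreeIso (I : Type u) :
    f.pull.obj (SheafOfModules.free (R := ModSite.ringSh O_D) I) ≅ SheafOfModules.free (R := ModSite.ringSh O_C) I :=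
  haveI := isIso_unitCmp f
  haveI := f.adj.leftAdjoint_preservesColimits
  PreservesCoproduct.iso f.pull (fun _ : I => SheafOfModules.unit (ModSite.ringSh O_D)) ≪≫
    Limits.Sigma.mapIso (fun _ => asIso (unitCmp f))

/-- The inverse image of a direct summand of a finite free module is one. -/
theorem isFinFreeSummandMod_pull {M : ModSite.Mod O_D} (h : DCoh.IsFinFreeSummandMod (ModSite.ringSh O_D) M) :
    DCoh.IsFinFreeSummandMod (ModSite.ringSh O_C) (f.pull.obj M) := by
  obtain ⟨n, i, p, hip⟩ := h
  refine ⟨n, f.pull.map i ≫ (pullFreeIso f _).hom, (pullFreeIso f _).inv ≫ f.pull.map p, ?_⟩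
  rw [Category.assoc, Iso.hom_inv_id_assoc, ← f.pull.map_comp, hip, f.pull.map_id]

end Groth.Agent.PullFlat
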