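import Groth.Agent.PullFlat.Tensor
import Groth.Agent.PullFlat.Unit

/-!
# Inverse images of invertible modules are invertible
-/

set_option autoImplicit false
set_option linter.style.haveILetI false
set_option linter.unusedSectionVars false

universe u

open CategoryTheory Limits

noncomputable section

namespace Groth.Agent.PullFlat

open Groth.Agent.ModTensor

variable {C : Type u} [SmallCategory C] {J : GrothendieckTopology C} (O : Sheaf J CommRingCat.{u})

/-- A module with a tensor inverse is invertible. -/
theorem isEquivalence_of_tens_iso {A B : ModSite.Mod O} (e : tens O A B ≅ ModSite.unit O) :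
    ((ModSite.tensorBi O).obj A).IsEquivalence := by
  let T := (ModSite.tensorBi O).flip
  let e' : tens O B A ≅ ModSite.unit O := tensComm O B A ≪≫ e
  let η₁ : T.obj A ⋙ T.obj B ≅ 𝟭 _ := tensorAssoc O A B ≪≫ T.mapIso e ≪≫ tensorUnitRight O
  let η₂ : T.obj B ⋙ T.obj A ≅ 𝟭 _ := tensorAssoc O B A ≪≫ T.mapIso e' ≪≫ tensorUnitRight O
  haveI : (T.obj A).IsEquivalence := Functor.IsEquivalence.mk' (T.obj B) η₁.symm η₂
  exact Functor.isEquivalence_of_iso (tensorSymm O A)

/-- An invertible module has a tensor inverse. -/
theorem exists_tens_iso {A : ModSite.Mod O} (h : ((ModSite.tensorBi O).obj A).IsEquivalence) :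
    ∃ B, Nonempty (tens O A B ≅ ModSite.unit O) :=
  haveI := h
  ⟨((ModSite.tensorBi O).obj A).objPreimage (ModSite.unit O),
    ⟨((ModSite.tensorBi O).obj A).objObjPreimageIso _⟩⟩

variable {D : Type u} [SmallCategory D] {K : GrothendieckTopology D} {O_D : Sheaf K CommRingCat.{u}}
  {O} (f : ModSite.RMor O O_D)

/-- Inverse images of invertible modules are invertible. -/
theorem isEquivalence_tensor_pull {L : ModSite.Mod O_D}
    (h : ((ModSite.tensorBi O_D).obj L).IsEquivalence) :
    ((ModSite.tensorBi O).obj (f.pull.obj L)).IsEquivalence := by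
  obtain ⟨B, ⟨e⟩⟩ := exists_tens_iso O_D h
  haveI := isIso_unitCmp f
  exact isEquivalence_of_tens_iso O (pullTensorIso f L B ≪≫ f.pull.mapIso e ≪≫ asIso (unitCmp f))

end Groth.Agent.PullFlat
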