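import Groth.Agent.PullFlat.OverPull

/-!
# Local presentations, generators and frames of inverse images
-/

set_option autoImplicit false
set_option linter.style.haveILetI false
set_option linter.unusedSectionVars false
set_option backward.isDefEq.respectTransparency false

universe u

open CategoryTheory Limits Opposite

noncomputable section

namespace Groth.Agent.PullFlat

open Groth.Agent.ModTensor

variable {C D : Type u} [SmallCategory C] [SmallCategory D] {J : GrothendieckTopology C}
  {K : GrothendieckTopology D} {O_C : Sheaf J CommRingCat.{u}} {O_D : Sheaf K CommRingCat.{u}}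
  (f : ModSite.RMor O_C O_D) {F : ModSite.Mod O_D}

theorem preservesColimits_pullX (X : D) : PreservesColimitsOfSize.{u, u, u, u, u + 1, u + 1} (pullX f X) :=
  (adjC (Over.post (X := X) f.fn) (σX f X)).leftAdjoint_preservesColimits

/-- The inverse image over an object of the structure sheaf. -/
def unitXIso (X : D) :
    SheafOfModules.unit (ModSite.ringSh (O_C.over (f.fn.obj X))) ≅
      (pullX f X).obj (SheafOfModules.unit (ModSite.ringSh (O_D.over X))) :=
  (asIso (SheafOfModules.pullbackObjUnitToUnit (σR (Over.post (X := X) f.fn) (σX f X)))).symm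

theorem coversTop_pull {I : Type*} {X : I → D} (h : K.CoversTop X) :
    J.CoversTop fun i => f.fn.obj (X i) := by
  intro U
  obtain ⟨S, hS, hS'⟩ := exists_cover_obj J K f.fn U
  have hL : Loc J U fun W _ => ∃ i, Nonempty (W ⟶ f.fn.obj (X i)) := by
    refine Loc.bind ⟨S, hS, hS'⟩ fun W g hg => ?_
    obtain ⟨V, ⟨ψ⟩⟩ := hg
    refine Loc.bind (loc_of_covering f ψ (h V)) fun W' k hk => ?_
    obtain ⟨V', a, ψ', -, ha⟩ := hk
    obtain ⟨i, ⟨b⟩⟩ := (Sieve.mem_ofObjects_iff ..).1 ha
    exact Loc.of_forall fun W'' l => ⟨i, ⟨l ≫ ψ' ≫ f.fn.map b⟩⟩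
  obtain ⟨T, hT, hT'⟩ := hL
  exact J.superset_covering (fun W g hg => (Sieve.mem_ofObjects_iff ..).2 (hT' g hg)) hT

/-- Local presentations of an inverse image. -/
def quasicoherentDataPull (q : SheafOfModules.QuasicoherentData.{u} (R := ModSite.ringSh O_D) F) :
    SheafOfModules.QuasicoherentData.{u} (R := ModSite.ringSh O_C) (f.pull.obj F) where
  I := q.I
  X i := f.fn.obj (q.X i)
  coversTop := coversTop_pull f q.coversTop
  presentation i :=
    haveI := isIso_overCmp f (q.X i) F
    haveI := preservesColimits_pullX f (q.X i)
    ((q.presentation i).map (pullX f (q.X i)) (unitXIso f (q.X i))).ofIsIso (overCmp f (q.X i) F)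

theorem isQuasicoherent_pull [SheafOfModules.IsQuasicoherent (R := ModSite.ringSh O_D) F] :
    SheafOfModules.IsQuasicoherent (R := ModSite.ringSh O_C) (f.pull.obj F) :=
  SheafOfModules.QuasicoherentData.isQuasicoherent (C := C) (R := ModSite.ringSh O_C) (quasicoherentDataPull f
    (SheafOfModules.IsQuasicoherent.nonempty_quasicoherentData (M := F)).some)

/-- Local generators of an inverse image. -/
def localGeneratorsDataPull (q : SheafOfModules.LocalGeneratorsData.{u} (R := ModSite.ringSh O_D) F) :
    SheafOfModules.LocalGeneratorsData.{u} (R := ModSite.ringSh O_C) (f.pull.obj F) where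
  I := q.I
  X i := f.fn.obj (q.X i)
  coversTop := coversTop_pull f q.coversTop
  generators i :=
    haveI := epi_overCmp f (q.X i) F
    haveI := preservesColimits_pullX f (q.X i)
    ((q.generators i).map (pullX f (q.X i)) (unitXIso f (q.X i))).ofEpi (overCmp f (q.X i) F)

theorem isFiniteType_pull [SheafOfModules.IsFiniteType (R := ModSite.ringSh O_D) F] :
    SheafOfModules.IsFiniteType (R := ModSite.ringSh O_C) (f.pull.obj F) := by
  obtain ⟨q, hq⟩ := SheafOfModules.IsFiniteType.exists_localGeneratorsData F
  let q' := localGeneratorsDataPull f q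
  have h : q'.IsFiniteType := by
    constructor
    intro i
    constructor
    exact (hq.isFiniteType i).finite
  exact { exists_localGeneratorsData := ⟨q', h⟩ }

theorem isFinitePresentation_pull [SheafOfModules.IsFinitePresentation (R := ModSite.ringSh O_D) F] :
    SheafOfModules.IsFinitePresentation (R := ModSite.ringSh O_C) (f.pull.obj F) := by
  obtain ⟨q, hq⟩ := SheafOfModules.IsFinitePresentation.exists_quasicoherentData (M := F)
  let q' := quasicoherentDataPull f q
  have h : q'.IsFinitePresentation := by
    constructor
    intro i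
    constructor
    · constructor
      exact (hq.isFinite_presentation i).isFiniteType_generators.finite
    · constructor
      exact (hq.isFinite_presentation i).isFiniteType_relations.finite
  exact { exists_quasicoherentData := ⟨q', h⟩ }

theorem isLocallyFree_pull [SheafOfModules.IsLocallyFree (R := ModSite.ringSh O_D) F] :
    SheafOfModules.IsLocallyFree (R := ModSite.ringSh O_C) (f.pull.obj F) := by
  obtain ⟨q, hq⟩ := SheafOfModules.IsLocallyFree.exists_isLocallyFreeData (M := F)
  let q' := localGeneratorsDataPull f q
  suffices h : q'.IsLocallyFreeData by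
    constructor
    exact ⟨q', h⟩
  constructor
  intro i
  haveI := isIso_overCmp f (q.X i) F
  haveI := preservesColimits_pullX f (q.X i)
  haveI : IsIso (q.generators i).π := hq.isIso i
  show IsIso (((q.generators i).map (pullX f (q.X i)) (unitXIso f (q.X i))).ofEpi
    (overCmp f (q.X i) F)).π
  rw [SheafOfModules.GeneratingSections.ofEpi_π]
  infer_instance

end Groth.Agent.PullFlat
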