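import Groth.Agent.PullFlat.Flat

/-!
# Inverse images along continuous functors are generated by inverse images of sections
-/

set_option autoImplicit false
set_option linter.style.haveILetI false
set_option linter.unusedSectionVars false

universe u

open CategoryTheory Limits Opposite

noncomputable section

namespace Groth.Agent.PullFlat

open Groth.Agent.ModTensor

variable {C D : Type u} [SmallCategory C] [SmallCategory D] {J : GrothendieckTopology C}
  {K : GrothendieckTopology D} {O_C : Sheaf J CommRingCat.{u}} {O_D : Sheaf K CommRingCat.{u}}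
  (G : D ⥤ C) [G.IsContinuous K J]
  (σ : O_D ⟶ (G.sheafPushforwardContinuous CommRingCat.{u} K J).obj O_C)

/-- The ring map of a continuous functor, for not necessarily commutative rings. -/
abbrev σR : ModSite.ringSh O_D ⟶ (G.sheafPushforwardContinuous RingCat.{u} K J).obj (ModSite.ringSh O_C) :=
  (sheafCompose K (forget₂ CommRingCat.{u} RingCat.{u})).map σ

/-- The direct image along a continuous functor. -/
abbrev pushC : ModSite.Mod O_C ⥤ ModSite.Mod O_D := SheafOfModules.pushforward.{u} (σR G σ)

/-- The inverse image along a continuous functor. -/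
abbrev pullC : ModSite.Mod O_D ⥤ ModSite.Mod O_C := SheafOfModules.pullback.{u} (σR G σ)

/-- The adjunction along a continuous functor. -/
abbrev adjC : pullC G σ ⊣ pushC G σ := SheafOfModules.pullbackPushforwardAdjunction.{u} (σR G σ)

variable (F : ModSite.Mod O_D)

/-- The unit of the adjunction on sections. -/
abbrev unitC {V : D} (x : (pre O_D F).obj (op V)) : (pre O_C ((pullC G σ).obj F)).obj (op (G.obj V)) :=
  lin ((preFunctor O_D).map ((adjC G σ).unit.app F)) (op V) x

/-- The section of an inverse image given by a map to the image and a section. -/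
def genC {W : C} (V : D) (φ : W ⟶ G.obj V) (x : (pre O_D F).obj (op V)) :
    (pre O_C ((pullC G σ).obj F)).obj (op W) :=
  res (pre O_C ((pullC G σ).obj F)) φ.op (unitC G σ F x)

theorem res_genC {W W' : C} (k : W' ⟶ W) (V : D) (φ : W ⟶ G.obj V) (x : (pre O_D F).obj (op V)) :
    res (pre O_C ((pullC G σ).obj F)) k.op (genC G σ F V φ x) = genC G σ F V (k ≫ φ) x :=
  (res_comp (pre O_C ((pullC G σ).obj F)) φ.op k.op _).symm

theorem genC_add {W : C} (V : D) (φ : W ⟶ G.obj V) (x y : (pre O_D F).obj (op V)) :
    genC G σ F V φ (x + y) = genC G σ F V φ x + genC G σ F V φ y :=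
  (congrArg (res (pre O_C ((pullC G σ).obj F)) φ.op)
    (map_add (lin ((preFunctor O_D).map ((adjC G σ).unit.app F)) (op V)) x y)).trans
      (map_add (res (pre O_C ((pullC G σ).obj F)) φ.op) _ _)

theorem genC_zero {W : C} (V : D) (φ : W ⟶ G.obj V) : genC G σ F V φ 0 = 0 :=
  (congrArg (res (pre O_C ((pullC G σ).obj F)) φ.op) (map_zero _)).trans (map_zero _)

theorem genC_sum {W : C} (V : D) (φ : W ⟶ G.obj V) {ι : Type*} (s : Finset ι)
    (x : ι → (pre O_D F).obj (op V)) :
    genC G σ F V φ (∑ i ∈ s, x i) = ∑ i ∈ s, genC G σ F V φ (x i) := by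
  classical
  induction s using Finset.induction with
  | empty => simp [genC_zero]
  | insert i s hi ih => rw [Finset.sum_insert hi, Finset.sum_insert hi, genC_add, ih]

theorem genC_smul {W : C} (V : D) (φ : W ⟶ G.obj V) (r : O_D.obj.obj (op V))
    (x : (pre O_D F).obj (op V)) :
    genC G σ F V φ (r • x) =
      (ores O_C φ.op ((σ.hom.app (op V)).hom r : O_C.obj.obj (op (G.obj V)))) • genC G σ F V φ x :=
  (congrArg (res (pre O_C ((pullC G σ).obj F)) φ.op)
    (map_smul (lin ((preFunctor O_D).map ((adjC G σ).unit.app F)) (op V)) r x)).trans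
      (res_smul (pre O_C ((pullC G σ).obj F)) φ.op _ _)

theorem genC_trans {W : C} {V V' : D} (φ : W ⟶ G.obj V) (a : V ⟶ V') (x : (pre O_D F).obj (op V')) :
    genC G σ F V φ (res (pre O_D F) a.op x) = genC G σ F V' (φ ≫ G.map a) x :=
  (congrArg (res (pre O_C ((pullC G σ).obj F)) φ.op)
    (lin_res ((preFunctor O_D).map ((adjC G σ).unit.app F)) a.op x)).trans
      (res_comp (pre O_C ((pullC G σ).obj F)) (G.map a).op φ.op _).symm

/-- The presheaf of formal sections. -/
def symC : Cᵒᵖ ⥤ Type u where
  obj W := Σ V : D, (W.unop ⟶ G.obj V) × (pre O_D F).obj (op V)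
  map h := ↾fun s => ⟨s.1, h.unop ≫ s.2.1, s.2.2⟩
  map_id W := by
    ext s <;> simp
  map_comp {X Y Z} h k := by
    ext s <;> simp

/-- The free presheaf of modules on formal sections. -/
abbrev freeC : PMod O_C.obj :=
  (PresheafOfModules.free (O_C.obj ⋙ forget₂ CommRingCat RingCat)).obj (symC G F)

/-- The evaluation of formal sections. -/
def evalC : freeC G F ⟶ pre O_C ((pullC G σ).obj F) :=
  PresheafOfModules.freeObjDesc
    { app := fun W => ↾fun s => genC G σ F s.1 s.2.1 s.2.2
      naturality := fun W W' h => by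
        ext s
        exact (res_genC G σ F h.unop s.1 s.2.1 s.2.2).symm }

/-- The evaluation of formal sections, on finitely supported functions. -/
abbrev evalLin (W : C) : ((symC G F).obj (op W) →₀ O_C.obj.obj (op W)) →ₗ[O_C.obj.obj (op W)]
    ((pre O_C ((pullC G σ).obj F)).obj (op W) : Type u) :=
  lin (evalC G σ F) (op W)

theorem evalLin_single {W : C} (s : (symC G F).obj (op W)) (c : O_C.obj.obj (op W)) :
    evalLin G σ F W (Finsupp.single s c) = c • genC G σ F s.1 s.2.1 s.2.2 := by
  rw [← Finsupp.smul_single_one, map_smul]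
  exact congrArg (c • ·) (ModuleCat.freeDesc_apply (R := O_C.obj.obj (op W)) _ s)

/-- The evaluation of formal sections, on the sheafification. -/
def evalSh : (shF O_C).obj (freeC G F) ⟶ (pullC G σ).obj F :=
  ((PresheafOfModules.sheafificationAdjunction (𝟙 (ModSite.ringSh O_C).obj)).homEquiv _ _).symm
    (evalC G σ F)

theorem shUnit_evalSh : shUnit O_C (freeC G F) ≫ (preFunctor O_C).map (evalSh G σ F) = evalC G σ F :=
  ((PresheafOfModules.sheafificationAdjunction (𝟙 (ModSite.ringSh O_C).obj)).homEquiv_unit _ _ _).symm.trans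
    (Equiv.apply_symm_apply _ _)

theorem epi_evalSh : Epi (evalSh G σ F) := by
  refine ⟨fun {N} a b h => ((adjC G σ).homEquiv _ _).injective ?_⟩
  refine SheafOfModules.hom_ext (PresheafOfModules.hom_ext fun V =>
    ModuleCat.hom_ext (LinearMap.ext fun x => ?_))
  obtain ⟨V⟩ := V
  rw [(adjC G σ).homEquiv_unit, (adjC G σ).homEquiv_unit]
  have h' : evalC G σ F ≫ (preFunctor O_C).map a = evalC G σ F ≫ (preFunctor O_C).map b := by
    rw [← shUnit_evalSh, Category.assoc, Category.assoc, ← Functor.map_comp, ← Functor.map_comp, h]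
  have e := congr(($h').app (op (G.obj V)) (Finsupp.single (⟨V, 𝟙 _, x⟩ : (symC G F).obj (op (G.obj V))) 1))
  have e1 : evalLin G σ F (G.obj V) (Finsupp.single (⟨V, 𝟙 _, x⟩ : (symC G F).obj (op (G.obj V))) 1) =
      unitC G σ F x := by
    rw [evalLin_single, one_smul]
    exact res_id _ _
  exact ((congrArg (lin ((preFunctor O_C).map a) _) e1).symm.trans e).trans
    (congrArg (lin ((preFunctor O_C).map b) _) e1)

/-- Sections of an inverse image are locally combinations of inverse images of sections. -/
theorem loc_exists_genC {U : C} (s : (pre O_C ((pullC G σ).obj F)).obj (op U)) :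
    Loc J U fun W g => ∃ (n : ℕ) (V : Fin n → D) (ψ : ∀ k, W ⟶ G.obj (V k))
      (x : ∀ k, (pre O_D F).obj (op (V k))) (E : Fin n → O_C.obj.obj (op W)),
        res (pre O_C ((pullC G σ).obj F)) g.op s = ∑ k, E k • genC G σ F (V k) (ψ k) (x k) := by
  classical
  haveI := epi_evalSh G σ F
  haveI := ((J.W_iff_isLocallyBijective _).1 (W_shUnit O_C (freeC G F))).2
  refine Loc.bind (loc_lift (evalSh G σ F) (fun _ : PUnit.{1} => s)) fun W g hg => ?_
  obtain ⟨t', ht'⟩ := hg
  have ht := ht' PUnit.unit
  let t := t' PUnit.unit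
  refine ⟨_, Presheaf.imageSieve_mem J
    ((PresheafOfModules.toPresheaf _).map (shUnit O_C (freeC G F))) t, fun W' k hk => ?_⟩
  obtain ⟨z, hz⟩ := hk
  change (symC G F).obj (op W') →₀ O_C.obj.obj (op W') at z
  let e := (Fintype.equivFin z.support).symm
  refine ⟨_, fun j => (e j).1.1, fun j => (e j).1.2.1, fun j => (e j).1.2.2, fun j => z (e j).1, ?_⟩
  have e1 : evalLin G σ F W' z = res (pre O_C ((pullC G σ).obj F)) (k ≫ g).op s := by
    refine (congr(($(shUnit_evalSh G σ F)).app (op W') z)).symm.trans ?_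
    refine (congrArg (lin ((preFunctor O_C).map (evalSh G σ F)) (op W')) hz).trans ?_
    refine (lin_res ((preFunctor O_C).map (evalSh G σ F)) k.op t).trans ?_
    rw [ht, op_comp, res_comp]
  rw [← e1, e.sum_comp (fun p : z.support => z p.1 • genC G σ F p.1.1 p.1.2.1 p.1.2.2)]
  conv_lhs => rw [← Finsupp.sum_single z, Finsupp.sum, map_sum]
  rw [← Finset.sum_coe_sort z.support]
  exact Finset.sum_congr rfl fun p _ => evalLin_single G σ F _ _

end Groth.Agent.PullFlat
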