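import Groth.Agent.PullFlat.OverPost
import Groth.Agent.PullFlat.Gen

/-!
# Inverse images commute with restriction over an object
-/

set_option autoImplicit false
set_option linter.style.haveILetI false
set_option linter.unusedSectionVars false

universe u

open CategoryTheory Limits Opposite

noncomputable section

namespace Groth.Agent.PullFlat

open Groth.Agent.ModTensor

variable {C D : Type u} [SmallCategory C] [SmallCategory D] {J : GrothendieckTopology C}
  {K : GrothendieckTopology D} {O_C : Sheaf J CommRingCat.{u}} {O_D : Sheaf K CommRingCat.{u}}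
  (f : ModSite.RMor O_C O_D) (X : D) (F : ModSite.Mod O_D)

theorem loc_over {Xc : C} {Y : Over Xc} {P : ∀ ⦃W : C⦄, (W ⟶ Y.left) → Prop} (h : Loc J Y.left P) :
    Loc (J.over Xc) Y fun _ g => P g.left := by
  obtain ⟨S, hS, h⟩ := h
  exact ⟨(Sieve.overEquiv Y).symm S, J.overEquiv_symm_mem_over Y S hS, fun W g hg => h g.left hg⟩

instance : (Over.post (X := X) f.fn).IsContinuous (K.over X) (J.over (f.fn.obj X)) :=
  isContinuous_overPost f X

instance : (Over.post (X := X) f.fn).Final := final_overPost f X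

/-- The structure map over an object. -/
abbrev σX : O_D.over X ⟶ ((Over.post (X := X) f.fn).sheafPushforwardContinuous CommRingCat.{u}
    (K.over X) (J.over (f.fn.obj X))).obj (O_C.over (f.fn.obj X)) :=
  ((Over.forget X).sheafPushforwardContinuous CommRingCat.{u} (K.over X) K).map f.sharp

/-- The restriction of a module over an object. -/
abbrev overMod {O : Sheaf J CommRingCat.{u}} (M : ModSite.Mod O) (Y : C) : ModSite.Mod (O.over Y) :=
  SheafOfModules.over (R := ModSite.ringSh O) M Y

/-- The inverse image over an object. -/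
abbrev pullX : ModSite.Mod (O_D.over X) ⥤ ModSite.Mod (O_C.over (f.fn.obj X)) :=
  pullC (Over.post (X := X) f.fn) (σX f X)

/-- The restriction of the unit of the inverse image. -/
def overUnit : overMod F X ⟶ (pushC (Over.post (X := X) f.fn) (σX f X)).obj
    (overMod (f.pull.obj F) (f.fn.obj X)) :=
  (SheafOfModules.overFunctor (ModSite.ringSh O_D) X).map (f.adj.unit.app F)

/-- The comparison of the inverse image over an object with the restriction of the inverse image. -/
def overCmp : (pullX f X).obj (overMod F X) ⟶ overMod (f.pull.obj F) (f.fn.obj X) :=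
  ((adjC (Over.post (X := X) f.fn) (σX f X)).homEquiv _ _).symm (overUnit f X F)

/-- The section of the inverse image over an object given by a map and a section. -/
abbrev genX {Y : Over (f.fn.obj X)} (Z : Over X) (φ : Y ⟶ (Over.post (X := X) f.fn).obj Z)
    (x : (pre O_D F).obj (op Z.left)) :
    (pre (O_C.over (f.fn.obj X)) ((pullX f X).obj (overMod F X))).obj (op Y) :=
  genC (Over.post (X := X) f.fn) (σX f X) (overMod F X) Z φ x

/-- The map to the image underlying a map over an object. -/
abbrev leftX {Y : Over (f.fn.obj X)} {Z : Over X} (φ : Y ⟶ (Over.post (X := X) f.fn).obj Z) :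
    Y.left ⟶ f.fn.obj Z.left :=
  φ.left

theorem overCmp_genX {Y : Over (f.fn.obj X)} (Z : Over X) (φ : Y ⟶ (Over.post (X := X) f.fn).obj Z)
    (x : (pre O_D F).obj (op Z.left)) :
    (show (pre O_C (f.pull.obj F)).obj (op Y.left) from
      lin ((preFunctor (O_C.over (f.fn.obj X))).map (overCmp f X F)) (op Y) (genX f X F Z φ x)) =
      gen f F Z.left (leftX f X φ) x := by
  refine (lin_res ((preFunctor (O_C.over (f.fn.obj X))).map (overCmp f X F)) φ.op _).trans ?_
  have h : ((adjC (Over.post (X := X) f.fn) (σX f X)).homEquiv _ _) (overCmp f X F) = overUnit f X F :=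
    Equiv.apply_symm_apply _ _
  rw [(adjC (Over.post (X := X) f.fn) (σX f X)).homEquiv_unit] at h
  exact congrArg (res (pre O_C (f.pull.obj F)) (leftX f X φ).op) congr(($h).val.app (op Z) x)

theorem genX_trans {Y : Over (f.fn.obj X)} {Z Z' : Over X} (φ : Y ⟶ (Over.post (X := X) f.fn).obj Z)
    (a : Z ⟶ Z') (x : (pre O_D F).obj (op Z'.left)) :
    genX f X F Z φ (res (pre O_D F) a.left.op x) =
      genX f X F Z' (φ ≫ (Over.post (X := X) f.fn).map a) x :=
  genC_trans (Over.post (X := X) f.fn) (σX f X) (overMod F X) φ a x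

theorem genX_smul {Y : Over (f.fn.obj X)} (Z : Over X) (φ : Y ⟶ (Over.post (X := X) f.fn).obj Z)
    (r : O_D.obj.obj (op Z.left)) (x : (pre O_D F).obj (op Z.left)) :
    genX f X F Z φ (r • x) =
      (show (O_C.over (f.fn.obj X)).obj.obj (op Y) from shRes f (leftX f X φ) r) • genX f X F Z φ x :=
  genC_smul (Over.post (X := X) f.fn) (σX f X) (overMod F X) Z φ r x

/-- Maps to the image over an object locally factor through a map over the object. -/
theorem loc_exists_over {Y : Over (f.fn.obj X)} {W : C} (g : W ⟶ Y.left) {V : D} (ψ : W ⟶ f.fn.obj V) :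
    Loc J W fun W' k => ∃ (V' : D) (ψ' : W' ⟶ f.fn.obj V') (a : V' ⟶ V) (b : V' ⟶ X),
      k ≫ ψ = ψ' ≫ f.fn.map a ∧ k ≫ g ≫ Y.hom = ψ' ≫ f.fn.map b := by
  obtain ⟨S, hS, h⟩ := exists_cover_pair J K f.fn ψ (g ≫ Y.hom)
  refine ⟨S, hS, fun W' k hk => ?_⟩
  obtain ⟨V', ψ', a, b, ha, hb⟩ := h k hk
  exact ⟨V', ψ', a, b, ha, hb⟩

theorem epi_overCmp : Epi (overCmp f X F) := by
  classical
  haveI : Sheaf.IsLocallySurjective
      ((SheafOfModules.toSheaf (ModSite.ringSh (O_C.over (f.fn.obj X)))).map (overCmp f X F)) := by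
    refine ⟨fun {Y} s => ?_⟩
    let s₀ : (pre O_C (f.pull.obj F)).obj (op Y.left) := s
    have hL : Loc J Y.left fun W g => ∃ (V : D) (ψ : W ⟶ f.fn.obj V) (b : V ⟶ X) (n : ℕ)
        (x : Fin n → (pre O_D F).obj (op V)) (E : Fin n → O_C.obj.obj (op W)),
          g ≫ Y.hom = ψ ≫ f.fn.map b ∧
            res (pre O_C (f.pull.obj F)) g.op s₀ = ∑ k, E k • gen f F V ψ (x k) := by
      refine Loc.bind (loc_exists_gen f F (fun _ : PUnit.{1} => s₀)) fun W g hg => ?_
      obtain ⟨V, ψ, n, x, E, hE⟩ := hg
      refine Loc.bind (loc_exists_over f X g ψ) fun W' k hk => ?_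
      obtain ⟨V', ψ', a, b, ha, hb⟩ := hk
      refine Loc.of_forall fun W'' l => ⟨V', l ≫ ψ', b, n, fun j => res (pre O_D F) a.op (x j),
        fun j => ores O_C (l ≫ k).op (E PUnit.unit j),
        by rw [Category.assoc, Category.assoc, hb, Category.assoc], ?_⟩
      rw [op_comp, res_comp, hE PUnit.unit, map_sum]
      refine Finset.sum_congr rfl fun j _ => ?_
      rw [res_smul, res_gen, gen_trans]
      congr 2
      rw [Category.assoc, Category.assoc, ha]
    obtain ⟨S, hS, h⟩ := loc_over hL
    refine (J.over (f.fn.obj X)).superset_covering (fun W g hg => ?_) hS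
    obtain ⟨V, ψ, b, n, x, E, hb, hs⟩ := h g hg
    let φ : W ⟶ (Over.post (X := X) f.fn).obj (Over.mk b) :=
      Over.homMk ψ (hb.symm.trans (Over.w g))
    let t : (pre (O_C.over (f.fn.obj X)) ((pullX f X).obj (overMod F X))).obj (op W) :=
      ∑ k, (show (O_C.over (f.fn.obj X)).obj.obj (op W) from E k) • genX f X F (Over.mk b) φ (x k)
    refine ⟨t, ?_⟩
    refine Eq.trans ?_ hs.symm
    show lin ((preFunctor (O_C.over (f.fn.obj X))).map (overCmp f X F)) (op W) t = _
    refine (map_sum _ _ _).trans (Finset.sum_congr rfl fun k _ => ?_)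
    exact (map_smul _ _ _).trans (congrArg (fun z : (pre O_C (f.pull.obj F)).obj (op W.left) => E k • z)
      (overCmp_genX f X F (Over.mk b) φ (x k)))
  haveI : Epi ((SheafOfModules.toSheaf (ModSite.ringSh (O_C.over (f.fn.obj X)))).map (overCmp f X F)) :=
    (Sheaf.isLocallySurjective_iff_epi' AddCommGrpCat.{u} _).1 inferInstance
  exact (SheafOfModules.toSheaf (ModSite.ringSh (O_C.over (f.fn.obj X)))).epi_of_epi_map inferInstance

/-- Sections of the inverse image over an object are locally combinations over one object. -/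
theorem loc_exists_genX {Y : Over (f.fn.obj X)}
    (t : (pre (O_C.over (f.fn.obj X)) ((pullX f X).obj (overMod F X))).obj (op Y)) :
    Loc (J.over (f.fn.obj X)) Y fun W g => ∃ (Z : Over X) (φ : W ⟶ (Over.post (X := X) f.fn).obj Z)
      (n : ℕ) (x : Fin n → (pre O_D F).obj (op Z.left)) (E : Fin n → (O_C.over (f.fn.obj X)).obj.obj (op W)),
        res (pre (O_C.over (f.fn.obj X)) ((pullX f X).obj (overMod F X))) g.op t =
          ∑ k, E k • genX f X F Z φ (x k) := by
  classical
  refine Loc.bind (loc_exists_genC (Over.post (X := X) f.fn) (σX f X) (overMod F X) t) fun W g hg => ?_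
  obtain ⟨n, Z, φ, x, E, hE⟩ := hg
  let P : Finset (Node f W.left) :=
    insert ⟨X, W.hom⟩ (Finset.univ.image fun k => (⟨(Z k).left, leftX f X (φ k)⟩ : Node f W.left))
  have hL : Loc J W.left fun W' k => ∃ (V : D) (ψ : W' ⟶ f.fn.obj V) (b : V ⟶ X)
      (a : ∀ j, V ⟶ (Z j).left), k ≫ W.hom = ψ ≫ f.fn.map b ∧
        ∀ j, k ≫ leftX f X (φ j) = ψ ≫ f.fn.map (a j) ∧ a j ≫ (Z j).hom = b := by
    refine Loc.bind (loc_nodes f P) fun W' k hk => ?_
    obtain ⟨V, ψ, hψ⟩ := hk
    obtain ⟨b, hb⟩ := hψ ⟨X, W.hom⟩ (Finset.mem_insert_self _ _)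
    choose a ha using fun j => hψ ⟨(Z j).left, leftX f X (φ j)⟩
      (Finset.mem_insert_of_mem (Finset.mem_image_of_mem _ (Finset.mem_univ j)))
    refine Loc.bind (loc_equalize f ψ
      (Finset.univ.image fun j => (⟨X, a j ≫ (Z j).hom, b⟩ : Σ V' : D, (V ⟶ V') × (V ⟶ V'))) ?_)
      fun W'' l hl => ?_
    · intro x hx
      obtain ⟨j, -, rfl⟩ := Finset.mem_image.1 hx
      show ψ ≫ f.fn.map (a j ≫ (Z j).hom) = ψ ≫ f.fn.map b
      have hw : leftX f X (φ j) ≫ f.fn.map (Z j).hom = W.hom := Over.w (φ j)
      rw [f.fn.map_comp, ← Category.assoc, ← ha, Category.assoc, hw, hb]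
    obtain ⟨V', ψ', e, he, he'⟩ := hl
    refine Loc.of_forall fun W₃ m => ⟨V', m ≫ ψ', e ≫ b, fun j => e ≫ a j, ?_, fun j => ⟨?_, ?_⟩⟩
    · simp only [Category.assoc, hb, f.fn.map_comp]
      rw [← Category.assoc l, he, Category.assoc]
    · simp only [Category.assoc, f.fn.map_comp]
      rw [ha, ← Category.assoc l, he, Category.assoc]
    · rw [Category.assoc]
      exact he' _ (Finset.mem_image_of_mem _ (Finset.mem_univ j))
  refine Loc.bind (loc_over hL) fun W' k hk => ?_
  obtain ⟨V, ψ, b, a, hb, ha⟩ := hk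
  refine Loc.of_forall fun W'' l => ?_
  let φ' : W' ⟶ (Over.post (X := X) f.fn).obj (Over.mk b) := Over.homMk ψ (hb.symm.trans (Over.w k))
  refine ⟨Over.mk b, l ≫ φ', n, fun j => res (pre O_D F) (a j).op (x j),
    fun j => ores (O_C.over (f.fn.obj X)) (l ≫ k).op (E j), ?_⟩
  rw [op_comp, res_comp, hE, map_sum]
  refine Finset.sum_congr rfl fun j _ => ?_
  rw [res_smul]
  refine congrArg (ores (O_C.over (f.fn.obj X)) (l ≫ k).op (E j) • ·) ?_
  let α : Over.mk b ⟶ Z j := Over.homMk (a j) (ha j).2
  refine (res_genC _ _ _ (l ≫ k) _ _ _).trans (Eq.trans ?_ (genX_trans f X F (l ≫ φ') α (x j)).symm)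
  refine congrArg (genC _ _ (overMod F X) (Z j) · (x j)) ?_
  rw [Category.assoc, Category.assoc]
  exact congrArg (l ≫ ·) (Over.OverMorphism.ext (ha j).1)

theorem mono_overCmp : Mono (overCmp f X F) := by
  classical
  haveI : Mono ((SheafOfModules.forget (ModSite.ringSh (O_C.over (f.fn.obj X)))).map (overCmp f X F)) :=
    PresheafOfModules.mono_of_injective fun {Y} a b_ hab => by
      obtain ⟨Y⟩ := Y
      refine sub_eq_zero.1 (eq_zero_of_loc _ (a - b_) ?_)
      refine Loc.bind (loc_exists_genX f X F (a - b_)) fun W g hg => ?_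
      obtain ⟨Z, φ, n, x, E, hE⟩ := hg
      let E₀ : Fin n → O_C.obj.obj (op W.left) := E
      have h0 : ∑ k, E₀ k • gen f F Z.left (leftX f X φ) (x k) = 0 := by
        have h2 := congrArg (lin ((preFunctor (O_C.over (f.fn.obj X))).map (overCmp f X F)) (op W)) hE
        rw [lin_res, map_sub, show lin ((preFunctor (O_C.over (f.fn.obj X))).map (overCmp f X F)) (op Y) a =
          lin ((preFunctor (O_C.over (f.fn.obj X))).map (overCmp f X F)) (op Y) b_ from hab, sub_self,
          map_zero, map_sum] at h2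
        refine Eq.trans ?_ h2.symm
        exact Finset.sum_congr rfl fun k _ =>
          ((map_smul (lin ((preFunctor (O_C.over (f.fn.obj X))).map (overCmp f X F)) (op W)) (E k) _).trans
            (congrArg (fun z : (pre O_C (f.pull.obj F)).obj (op W.left) => E₀ k • z) (overCmp_genX f X F Z φ (x k)))).symm
      refine Loc.bind (loc_over (loc_of_sum_gen_eq_zero f F (leftX f X φ) x E₀ h0)) fun W' k hk => ?_
      obtain ⟨V, α, ψ, hα, l, m, t, A, A', y, hy, hy', hA⟩ := hk
      let Z' : Over X := Over.mk (α ≫ Z.hom)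
      let αX : Z' ⟶ Z := Over.homMk α
      let φ' : W' ⟶ (Over.post (X := X) f.fn).obj Z' := Over.homMk ψ (by
        show ψ ≫ f.fn.map (α ≫ Z.hom) = W'.hom
        have hw : leftX f X φ ≫ f.fn.map Z.hom = W.hom := Over.w φ
        rw [f.fn.map_comp, ← Category.assoc, ← hα, Category.assoc, hw, Over.w k])
      refine Loc.of_forall fun W'' l' => ?_
      rw [op_comp, res_comp, op_comp, res_comp, hE]
      refine (congrArg (res (pre (O_C.over (f.fn.obj X)) ((pullX f X).obj (overMod F X))) l'.op) ?_).trans
        (map_zero _)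
      let O' := O_C.over (f.fn.obj X)
      let y' : Fin m → O'.obj.obj (op W') := y
      let sh' : O_D.obj.obj (op V) →+* O'.obj.obj (op W') := shRes f ψ
      have hsm : ∀ (r : O_D.obj.obj (op V)) (z : (pre O_D F).obj (op V)),
          genX f X F Z' φ' (r • z) = sh' r • genX f X F Z' φ' z := fun r z => genX_smul f X F Z' φ' r z
      let G : (pre O_D F).obj (op V) →+
          (pre O' ((pullX f X).obj (overMod F X))).obj (op W') :=
        AddMonoidHom.mk' (fun z => genX f X F Z' φ' z) fun z z' =>
          genC_add (Over.post (X := X) f.fn) (σX f X) (overMod F X) Z' φ' z z'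
      have hG : ∀ j, res (pre O' ((pullX f X).obj (overMod F X))) k.op (genX f X F Z φ (x j)) =
          G (res (pre O_D F) α.op (x j)) := fun j => by
        refine (res_genC _ _ _ k _ _ _).trans (Eq.trans ?_ (genX_trans f X F φ' αX (x j)).symm)
        exact congrArg (genC _ _ (overMod F X) Z · (x j)) (Over.OverMorphism.ext hα)
      have hy1 : ∀ j, ores O' k.op (E j) = ∑ q, sh' (A j q) * y' q := hy
      have hy2 : ∀ i, ∑ q, sh' (A' i q) * y' q = 0 := hy'
      have key : ∀ q, ∑ j, sh' (A j q) • G (res (pre O_D F) α.op (x j)) =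
          -∑ i, sh' (A' i q) • G (t i) := fun q => by
        have h2 := congrArg G (hA q)
        rw [map_add, map_sum, map_sum, map_zero] at h2
        refine Eq.trans ?_ ((eq_neg_of_add_eq_zero_left h2).trans (congrArg Neg.neg
          (Finset.sum_congr rfl fun i _ => hsm (A' i q) (t i))))
        exact Finset.sum_congr rfl fun j _ => (hsm _ _).symm
      calc res (pre O' ((pullX f X).obj (overMod F X))) k.op (∑ j, E j • genX f X F Z φ (x j))
          = ∑ q, y' q • ∑ j, sh' (A j q) • G (res (pre O_D F) α.op (x j)) := by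
            rw [map_sum]
            simp only [res_smul, hG, hy1, Finset.sum_smul, Finset.smul_sum, smul_smul]
            rw [Finset.sum_comm]
            exact Finset.sum_congr rfl fun q _ => Finset.sum_congr rfl fun j _ => by rw [mul_comm]
        _ = 0 := by
            simp only [key, smul_neg, Finset.smul_sum, smul_smul, Finset.sum_neg_distrib, neg_eq_zero]
            rw [Finset.sum_comm]
            refine Finset.sum_eq_zero fun i _ => ?_
            rw [← Finset.sum_smul]
            refine (congrArg (· • _) ?_).trans (zero_smul _ _)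
            refine Eq.trans (Finset.sum_congr rfl fun q _ => mul_comm _ _) (hy2 i)
  exact (SheafOfModules.forget (ModSite.ringSh (O_C.over (f.fn.obj X)))).mono_of_mono_map inferInstance

theorem isIso_overCmp : IsIso (overCmp f X F) :=
  haveI := mono_overCmp f X F
  haveI := epi_overCmp f X F
  isIso_of_mono_of_epi _

end Groth.Agent.PullFlat
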