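import Groth.Agent.PullFlat.Tensor

/-!
# Naturality of the comparison of inverse images of tensor products
-/

set_option autoImplicit false
set_option linter.style.haveILetI false
set_option linter.unusedSectionVars false

universe u

open CategoryTheory Limits Opposite TensorProduct MonoidalCategory

noncomputable section

namespace Groth.Agent.PullFlat

open Groth.Agent.ModTensor

variable {C D : Type u} [SmallCategory C] [SmallCategory D] {J : GrothendieckTopology C}
  {K : GrothendieckTopology D} {O_C : Sheaf J CommRingCat.{u}} {O_D : Sheaf K CommRingCat.{u}}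
  (f : ModSite.RMor O_C O_D)

theorem pairT_map {O : Sheaf J CommRingCat.{u}} {M M' : ModSite.Mod O} (g : M ⟶ M') (N : ModSite.Mod O)
    {U : C} (m : (pre O M).obj (op U)) (n : (pre O N).obj (op U)) :
    lin ((preFunctor O).map (((ModSite.tensorBi O).map g).app N)) (op U) (pairT O M N m n) =
      pairT O M' N (lin ((preFunctor O).map g) (op U) m) n :=
  (congr(($(shUnit_naturality O ((preFunctor O).map g ▷ pre O N))).app (op U) (m ⊗ₜ[O.obj.obj (op U)] n :
    ((pre O M).obj (op U) : Type u) ⊗[O.obj.obj (op U)] ((pre O N).obj (op U) : Type u)))).symm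

theorem tensorCmp_natural {M M' : ModSite.Mod O_D} (g : M ⟶ M') (N : ModSite.Mod O_D) :
    f.pull.map (((ModSite.tensorBi O_D).map g).app N) ≫ tensorCmp f M' N =
      tensorCmp f M N ≫ ((ModSite.tensorBi O_C).map (f.pull.map g)).app (f.pull.obj N) := by
  apply (f.adj.homEquiv _ _).injective
  rw [f.adj.homEquiv_naturality_left, f.adj.homEquiv_naturality_right]
  have e1 := fun M₀ : ModSite.Mod O_D => (Equiv.apply_symm_apply (f.adj.homEquiv _ _)
    (((PresheafOfModules.sheafificationAdjunction (𝟙 (ModSite.ringSh O_D).obj)).homEquiv _ _).symm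
      (pairPush f M₀ N)) : f.adj.homEquiv _ _ (tensorCmp f M₀ N) = _)
  refine ((congrArg (((ModSite.tensorBi O_D).map g).app N ≫ ·) (e1 M')).trans ?_).trans
    (congrArg (· ≫ f.push.map _) (e1 M)).symm
  let adj := PresheafOfModules.sheafificationAdjunction (𝟙 (ModSite.ringSh O_D).obj)
  apply (adj.homEquiv _ _).injective
  refine (adj.homEquiv_naturality_left ((preFunctor O_D).map g ▷ pre O_D N) _).trans
    (Eq.trans ?_ (adj.homEquiv_naturality_right _ _).symm)
  refine ((congrArg (((preFunctor O_D).map g ▷ pre O_D N) ≫ ·) (Equiv.apply_symm_apply _ _)).trans ?_).trans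
    (congrArg (· ≫ _) (Equiv.apply_symm_apply (adj.homEquiv _ _) (pairPush f M N))).symm
  refine PresheafOfModules.hom_ext fun V => ModuleCat.hom_ext (LinearMap.ext fun z => ?_)
  obtain ⟨V⟩ := V
  change ((pre O_D M).obj (op V) : Type u) ⊗[O_D.obj.obj (op V)] ((pre O_D N).obj (op V) : Type u) at z
  show pairHom f M' N V (((preFunctor O_D).map g ▷ pre O_D N).app (op V) z) =
    lin ((preFunctor O_C).map (((ModSite.tensorBi O_C).map (f.pull.map g)).app (f.pull.obj N)))
      (op (f.fn.obj V)) (pairHom f M N V z)
  induction z using TensorProduct.induction_on with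
  | zero => exact ((congrArg _ (map_zero _)).trans (map_zero _)).trans ((congrArg _ (map_zero _)).trans (map_zero _)).symm
  | tmul m n =>
    show pairT O_C (f.pull.obj M') (f.pull.obj N) (unitSec f M' (lin ((preFunctor O_D).map g) (op V) m))
        (unitSec f N n) = _
    rw [pairHom_tmul, pairT_map]
    refine congrArg (pairT O_C (f.pull.obj M') (f.pull.obj N) · (unitSec f N n)) ?_
    exact congr(($(f.adj.unit.naturality g)).val.app (op V) m)
  | add z₁ z₂ h₁ h₂ =>
    exact ((congrArg _ (map_add _ z₁ z₂)).trans (map_add _ _ _)).trans ((congrArg₂ (· + ·) h₁ h₂).trans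
      ((congrArg _ (map_add (pairHom f M N V) z₁ z₂)).trans (map_add _ _ _)).symm)

/-- Inverse images commute with tensoring by a fixed module. -/
def tensorPullNatIso (N : ModSite.Mod O_D) :
    (ModSite.tensorBi O_D).flip.obj N ⋙ f.pull ≅ f.pull ⋙ (ModSite.tensorBi O_C).flip.obj (f.pull.obj N) :=
  NatIso.ofComponents (fun M => haveI := isIso_tensorCmp f M N; asIso (tensorCmp f M N))
    fun g => tensorCmp_natural f g N

/-- The internal hom commutes with direct images. -/
def pushSheafHomIso (N : ModSite.Mod O_D) [ModSite.HasSheafHom (f.pull.obj N)] [ModSite.HasSheafHom N] :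
    ModSite.sheafHom (f.pull.obj N) ⋙ f.push ≅ f.push ⋙ ModSite.sheafHom N :=
  Adjunction.rightAdjointUniq
    ((f.adj.comp (ModSite.sheafHomAdj (f.pull.obj N))).ofNatIsoLeft (tensorPullNatIso f N).symm)
    ((ModSite.sheafHomAdj N).comp f.adj)

end Groth.Agent.PullFlat
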