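import Groth.Agent.PullFlat.Flat
import Groth.Prelude.Def_ModSite2

/-!
# Sections of the inverse image of a sheaf of rings
-/

set_option autoImplicit false
set_option linter.style.haveILetI false
set_option linter.unusedSectionVars false

universe u w

open CategoryTheory Limits Opposite

noncomputable section

namespace Groth.Agent.PullFlat

open Groth.Agent.ModTensor

variable {C D : Type u} [SmallCategory C] [SmallCategory D] {J : GrothendieckTopology C}
  {K : GrothendieckTopology D} {O_C : Sheaf J CommRingCat.{u}} {O_D : Sheaf K CommRingCat.{u}}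
  (f : ModSite.RMor O_C O_D)

/-- The morphism to the inverse image of the structure sheaf. -/
abbrev invRMor : ModSite.RMor f.invRing O_D where
  fn := f.fn
  exact := f.exact
  sharp := (f.fn.sheafAdjunctionContinuous CommRingCat.{u} K J).unit.app O_D

/-- The structure map factors through the inverse image of the structure sheaf. -/
theorem invSharp_shRes {W : C} {V : D} (φ : W ⟶ f.fn.obj V) (r : O_D.obj.obj (op V)) :
    (f.invSharp.hom.app (op W)).hom (shRes (invRMor f) φ r) = shRes f φ r := by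
  have h : (f.fn.sheafAdjunctionContinuous CommRingCat.{u} K J).homEquiv O_D O_C f.invSharp = f.sharp :=
    Equiv.apply_symm_apply _ _
  rw [Adjunction.homEquiv_unit] at h
  refine (congr(($(f.invSharp.hom.naturality φ.op)).hom
    (((invRMor f).sharp.hom.app (op V)).hom r))).trans ?_
  exact congrArg (ores O_C φ.op) (congr((($h).hom.app (op V)).hom r))

/-- Formal sections of the inverse image of the structure sheaf. -/
abbrev RVar (W : C) : Type u := Σ V : D, (W ⟶ f.fn.obj V) × O_D.obj.obj (op V)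

/-- The polynomial ring on formal sections. -/
abbrev RPoly (W : C) : Type u := MvPolynomial (RVar f W) ℤ

/-- The variable of a formal section. -/
abbrev rX {W : C} (V : D) (φ : W ⟶ f.fn.obj V) (r : O_D.obj.obj (op V)) : RPoly f W :=
  MvPolynomial.X ⟨V, φ, r⟩

/-- The relations between formal sections. -/
inductive RRel (W : C) : Type u
  | one (V : D) (φ : W ⟶ f.fn.obj V) : RRel W
  | add (V : D) (φ : W ⟶ f.fn.obj V) (r s : O_D.obj.obj (op V)) : RRel W
  | mul (V : D) (φ : W ⟶ f.fn.obj V) (r s : O_D.obj.obj (op V)) : RRel W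
  | trans (V V' : D) (φ : W ⟶ f.fn.obj V) (a : V ⟶ V') (r : O_D.obj.obj (op V')) : RRel W

/-- The value of a relation. -/
def rrelVal {W : C} : RRel f W → RPoly f W
  | .one V φ => rX f V φ 1 - 1
  | .add V φ r s => rX f V φ (r + s) - rX f V φ r - rX f V φ s
  | .mul V φ r s => rX f V φ (r * s) - rX f V φ r * rX f V φ s
  | .trans V V' φ a r => rX f V' (φ ≫ f.fn.map a) r - rX f V φ (ores O_D a.op r)

/-- The ideal of relations. -/
def idl (W : C) : Ideal (RPoly f W) := Ideal.span (Set.range (rrelVal f (W := W)))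

/-- Pulling back formal sections. -/
def rPull {W W' : C} (k : W' ⟶ W) : RPoly f W →+* RPoly f W' :=
  (MvPolynomial.rename fun s : RVar f W => (⟨s.1, k ≫ s.2.1, s.2.2⟩ : RVar f W')).toRingHom

theorem rPull_rX {W W' : C} (k : W' ⟶ W) (V : D) (φ : W ⟶ f.fn.obj V) (r : O_D.obj.obj (op V)) :
    rPull f k (rX f V φ r) = rX f V (k ≫ φ) r :=
  MvPolynomial.rename_X _ _

theorem idl_le {W W' : C} (k : W' ⟶ W) : idl f W ≤ (idl f W').comap (rPull f k) := by
  refine Ideal.span_le.2 ?_
  rintro _ ⟨p, rfl⟩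
  show rPull f k (rrelVal f p) ∈ idl f W'
  cases p with
  | one V φ =>
    exact Ideal.subset_span ⟨.one V (k ≫ φ), by simp [rrelVal, rPull_rX]⟩
  | add V φ r s =>
    exact Ideal.subset_span ⟨.add V (k ≫ φ) r s, by simp [rrelVal, rPull_rX]⟩
  | mul V φ r s =>
    exact Ideal.subset_span ⟨.mul V (k ≫ φ) r s, by simp [rrelVal, rPull_rX]⟩
  | trans V V' φ a r =>
    exact Ideal.subset_span ⟨.trans V V' (k ≫ φ) a r, by simp [rrelVal, rPull_rX]⟩

/-- The presheaf model of the inverse image of the structure sheaf. -/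
def ringModel : Cᵒᵖ ⥤ CommRingCat.{u} where
  obj W := CommRingCat.of (RPoly f W.unop ⧸ idl f W.unop)
  map h := CommRingCat.ofHom (Ideal.quotientMap _ (rPull f h.unop) (idl_le f h.unop))
  map_id W := by
    refine CommRingCat.hom_ext (Ideal.Quotient.ringHom_ext (MvPolynomial.ringHom_ext (by simp) fun s => ?_))
    show Ideal.Quotient.mk (idl f W.unop) (rPull f (𝟙 _) (MvPolynomial.X s)) =
      Ideal.Quotient.mk (idl f W.unop) (MvPolynomial.X s)
    rw [rPull_rX, Category.id_comp]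
  map_comp {X Y Z} h k := by
    refine CommRingCat.hom_ext (Ideal.Quotient.ringHom_ext (MvPolynomial.ringHom_ext (by simp) fun s => ?_))
    show Ideal.Quotient.mk (idl f Z.unop) (rPull f (k.unop ≫ h.unop) (MvPolynomial.X s)) =
      Ideal.Quotient.mk (idl f Z.unop) (rPull f k.unop (rPull f h.unop (MvPolynomial.X s)))
    rw [rPull_rX, rPull_rX, rPull_rX, Category.assoc]

/-- The class of a formal section. -/
def rcls {W : C} (V : D) (φ : W ⟶ f.fn.obj V) (r : O_D.obj.obj (op V)) :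
    (ringModel f).obj (op W) :=
  Ideal.Quotient.mk (idl f W) (rX f V φ r)

theorem map_rcls {W W' : C} (k : W' ⟶ W) (V : D) (φ : W ⟶ f.fn.obj V) (r : O_D.obj.obj (op V)) :
    ((ringModel f).map k.op).hom (rcls f V φ r) = rcls f V (k ≫ φ) r :=
  congrArg (Ideal.Quotient.mk (idl f W')) (rPull_rX f k V φ r)

theorem rcls_one {W : C} (V : D) (φ : W ⟶ f.fn.obj V) : rcls f V φ 1 = 1 :=
  Ideal.Quotient.eq.2 (Ideal.subset_span ⟨.one V φ, rfl⟩)

theorem rcls_add {W : C} (V : D) (φ : W ⟶ f.fn.obj V) (r s : O_D.obj.obj (op V)) :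
    rcls f V φ (r + s) = rcls f V φ r + rcls f V φ s := by
  refine Ideal.Quotient.eq.2 ?_
  rw [← sub_sub]
  exact Ideal.subset_span ⟨.add V φ r s, rfl⟩

theorem rcls_mul {W : C} (V : D) (φ : W ⟶ f.fn.obj V) (r s : O_D.obj.obj (op V)) :
    rcls f V φ (r * s) = rcls f V φ r * rcls f V φ s :=
  Ideal.Quotient.eq.2 (Ideal.subset_span ⟨.mul V φ r s, rfl⟩)

theorem rcls_trans {W : C} {V V' : D} (φ : W ⟶ f.fn.obj V) (a : V ⟶ V') (r : O_D.obj.obj (op V')) :
    rcls f V' (φ ≫ f.fn.map a) r = rcls f V φ (ores O_D a.op r) :=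
  Ideal.Quotient.eq.2 (Ideal.subset_span ⟨.trans V V' φ a r, rfl⟩)

theorem rcls_zero {W : C} (V : D) (φ : W ⟶ f.fn.obj V) : rcls f V φ 0 = 0 :=
  left_eq_add.1 ((congrArg (rcls f V φ) (add_zero 0).symm).trans (rcls_add f V φ 0 0))

/-- The ring map into the model at the canonical formal sections. -/
def rclsHom (V : D) : O_D.obj.obj (op V) →+* (ringModel f).obj (op (f.fn.obj V)) where
  toFun r := rcls f V (𝟙 _) r
  map_one' := rcls_one f V _
  map_mul' := rcls_mul f V _
  map_zero' := rcls_zero f V _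
  map_add' := rcls_add f V _

/-- The sheaf of the model. -/
abbrev ringModelSh : Sheaf J CommRingCat.{u} := (presheafToSheaf J CommRingCat.{u}).obj (ringModel f)

/-- The map to the sheafified model. -/
abbrev rUnit (W : C) : (ringModel f).obj (op W) →+* (ringModelSh f).obj.obj (op W) :=
  ((CategoryTheory.toSheafify J (ringModel f)).app (op W)).hom

theorem rUnit_map {W W' : C} (k : W' ⟶ W) (z : (ringModel f).obj (op W)) :
    rUnit f W' (((ringModel f).map k.op).hom z) = ((ringModelSh f).obj.map k.op).hom (rUnit f W z) :=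
  congr(($((CategoryTheory.toSheafify J (ringModel f)).naturality k.op)).hom z)

/-- The map to the direct image of the sheafified model. -/
def toPushRing : O_D ⟶ (f.fn.sheafPushforwardContinuous CommRingCat.{u} K J).obj (ringModelSh f) where
  hom :=
    { app := fun V => CommRingCat.ofHom ((rUnit f (f.fn.obj V.unop)).comp (rclsHom f V.unop))
      naturality := fun {V V'} a => by
        refine CommRingCat.hom_ext (RingHom.ext fun r => ?_)
        show rUnit f (f.fn.obj V'.unop) (rcls f V'.unop (𝟙 _) (ores O_D a.unop.op r)) =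
          ((ringModelSh f).obj.map (f.fn.map a.unop).op).hom
            (rUnit f (f.fn.obj V.unop) (rcls f V.unop (𝟙 _) r))
        rw [← rUnit_map, map_rcls, ← rcls_trans, Category.id_comp, Category.comp_id] }

/-- The map from the inverse image of the structure sheaf to the sheafified model. -/
def κR : f.invRing ⟶ ringModelSh f :=
  ((f.fn.sheafAdjunctionContinuous CommRingCat.{u} K J).homEquiv _ _).symm (toPushRing f)

/-- Evaluation of formal sections in the inverse image of the structure sheaf. -/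
def rEval (W : C) : RPoly f W →+* f.invRing.obj.obj (op W) :=
  MvPolynomial.eval₂Hom (Int.castRingHom _) fun s => shRes (invRMor f) s.2.1 s.2.2

theorem rEval_rX {W : C} (V : D) (φ : W ⟶ f.fn.obj V) (r : O_D.obj.obj (op V)) :
    rEval f W (rX f V φ r) = shRes (invRMor f) φ r :=
  MvPolynomial.eval₂Hom_X' _ _ _

theorem idl_le_ker (W : C) : idl f W ≤ RingHom.ker (rEval f W) := by
  refine Ideal.span_le.2 ?_
  rintro _ ⟨p, rfl⟩
  rw [SetLike.mem_coe, RingHom.mem_ker]
  cases p with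
  | one V φ => simp only [rrelVal, map_sub, rEval_rX, map_one, sub_self]
  | add V φ r s => simp only [rrelVal, map_sub, rEval_rX, map_add]; ring
  | mul V φ r s => simp only [rrelVal, map_sub, map_mul, rEval_rX, sub_self]
  | trans V V' φ a r =>
    simp only [rrelVal, map_sub, rEval_rX, shRes_ores, sub_self]

/-- The map from the model to the inverse image of the structure sheaf. -/
def ringModelTo : ringModel f ⟶ f.invRing.obj where
  app W := CommRingCat.ofHom (Ideal.Quotient.lift (idl f W.unop) (rEval f W.unop)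
    fun z hz => idl_le_ker f W.unop hz)
  naturality {W W'} h := by
    refine CommRingCat.hom_ext (Ideal.Quotient.ringHom_ext (MvPolynomial.ringHom_ext (fun n => by simp) fun s => ?_))
    show rEval f W'.unop (rPull f h.unop (MvPolynomial.X s)) =
      ores f.invRing h.unop.op (rEval f W.unop (MvPolynomial.X s))
    rw [rPull_rX, rEval_rX, rEval_rX, shRes_comp]

/-- The map from the sheafified model to the inverse image of the structure sheaf. -/
def θR : ringModelSh f ⟶ f.invRing :=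
  ((sheafificationAdjunction J CommRingCat.{u}).homEquiv _ _).symm (ringModelTo f)

theorem toSheafify_θR : CategoryTheory.toSheafify J (ringModel f) ≫ (θR f).hom = ringModelTo f :=
  (((sheafificationAdjunction J CommRingCat.{u}).homEquiv_unit _ _ _).symm.trans
    (Equiv.apply_symm_apply _ _) :)

theorem θR_rUnit (W : C) (z : RPoly f W) :
    ((θR f).hom.app (op W)).hom (rUnit f W (Ideal.Quotient.mk _ z)) = rEval f W z :=
  congr((($(toSheafify_θR f)).app (op W)).hom (Ideal.Quotient.mk _ z))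

theorem κR_unit (V : D) (r : O_D.obj.obj (op V)) :
    ((κR f).hom.app (op (f.fn.obj V))).hom (((invRMor f).sharp.hom.app (op V)).hom r) =
      rUnit f (f.fn.obj V) (rcls f V (𝟙 _) r) := by
  have h : (f.fn.sheafAdjunctionContinuous CommRingCat.{u} K J).homEquiv _ _ (κR f) = toPushRing f :=
    Equiv.apply_symm_apply _ _
  rw [Adjunction.homEquiv_unit] at h
  exact congr((($h).hom.app (op V)).hom r)

theorem κR_θR : κR f ≫ θR f = 𝟙 _ := by
  apply ((f.fn.sheafAdjunctionContinuous CommRingCat.{u} K J).homEquiv _ _).injective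
  rw [Adjunction.homEquiv_naturality_right, Adjunction.homEquiv_id,
    show ((f.fn.sheafAdjunctionContinuous CommRingCat.{u} K J).homEquiv _ _) (κR f) = toPushRing f
      from Equiv.apply_symm_apply _ _]
  refine Sheaf.hom_ext (NatTrans.ext (funext fun V => CommRingCat.hom_ext (RingHom.ext fun r => ?_)))
  refine (θR_rUnit f (f.fn.obj V.unop) (rX f V.unop (𝟙 _) r)).trans ?_
  rw [rEval_rX]
  exact ores_id f.invRing _

theorem κR_shRes {W : C} {V : D} (φ : W ⟶ f.fn.obj V) (r : O_D.obj.obj (op V)) :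
    ((κR f).hom.app (op W)).hom (shRes (invRMor f) φ r) = rUnit f W (rcls f V φ r) := by
  refine (congr(($((κR f).hom.naturality φ.op)).hom
    (((invRMor f).sharp.hom.app (op V)).hom r))).trans ?_
  refine (congrArg ((ringModelSh f).obj.map φ.op).hom (κR_unit f V r)).trans ?_
  rw [← rUnit_map, map_rcls, Category.comp_id]

/-- Sections of the inverse image of the structure sheaf are locally pulled back. -/
theorem loc_exists_inv {U : C} {ι : Type w} [Fintype ι] (b : ι → f.invRing.obj.obj (op U)) :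
    Loc J U fun W g => ∃ (V : D) (ψ : W ⟶ f.fn.obj V) (β : ι → O_D.obj.obj (op V)),
      ∀ i, ores f.invRing g.op (b i) = shRes (invRMor f) ψ (β i) := by
  classical
  haveI := ((J.W_iff_isLocallyBijective _).1 (J.W_toSheafify (ringModel f))).2
  have h1 : ∀ i, Loc J U fun W g => ∃ z : RPoly f W, rEval f W z = ores f.invRing g.op (b i) := fun i => by
    refine ⟨_, Presheaf.imageSieve_mem J (CategoryTheory.toSheafify J (ringModel f)) (U := op U)
      (((κR f).hom.app (op U)).hom (b i)), fun W g hg => ?_⟩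
    obtain ⟨t, ht⟩ := hg
    obtain ⟨z, rfl⟩ := Ideal.Quotient.mk_surjective t
    refine ⟨z, (θR_rUnit f W z).symm.trans ?_⟩
    refine ((congrArg ((θR f).hom.app (op W)).hom ht).trans ?_)
    refine Eq.trans ?_ (congr((($(κR_θR f)).hom.app (op W)).hom (ores f.invRing g.op (b i))))
    exact congrArg ((θR f).hom.app (op W)).hom (congr(($((κR f).hom.naturality g.op)).hom (b i))).symm
  refine Loc.bind (Loc.forall_fintype h1) fun W g hg => ?_
  choose z hz using hg
  let S : Finset (RVar f W) := Finset.univ.biUnion fun i => (z i).vars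
  refine Loc.bind (loc_nodes f (S.image fun s => (⟨s.1, s.2.1⟩ : Node f W))) fun W' k hk => ?_
  obtain ⟨V, ψ, hψ⟩ := hk
  refine Loc.of_forall fun W'' l => ?_
  choose a ha using fun s : S => hψ _ (Finset.mem_image_of_mem _ s.2)
  let val : RVar f W → O_D.obj.obj (op V) := fun s =>
    if hs : s ∈ S then ores O_D (a ⟨s, hs⟩).op s.2.2 else 0
  refine ⟨V, l ≫ ψ, fun i => MvPolynomial.eval₂Hom (Int.castRingHom _) val (z i), fun i => ?_⟩
  rw [op_comp, ores_comp, ← hz i]
  show ((ores f.invRing (l ≫ k).op).comp (rEval f W)) (z i) =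
    ((shRes (invRMor f) (l ≫ ψ)).comp (MvPolynomial.eval₂Hom (Int.castRingHom _) val)) (z i)
  refine MvPolynomial.hom_congr_vars (RingHom.ext_int _ _) (fun s hs _ => ?_) rfl
  have hs' : s ∈ S := Finset.mem_biUnion.2 ⟨i, Finset.mem_univ i, hs⟩
  show ores f.invRing (l ≫ k).op (rEval f W (rX f s.1 s.2.1 s.2.2)) =
    shRes (invRMor f) (l ≫ ψ) (MvPolynomial.eval₂Hom (Int.castRingHom _) val (MvPolynomial.X s))
  rw [rEval_rX, MvPolynomial.eval₂Hom_X']
  simp only [val, dif_pos hs']
  rw [shRes_ores, ← shRes_comp, Category.assoc, Category.assoc]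
  exact congrArg (fun m => shRes (invRMor f) (l ≫ m) s.2.2) (ha ⟨s, hs'⟩)

/-- Pulled back sections of the structure sheaf vanish only for local reasons. -/
theorem loc_of_shRes_eq_zero {U : C} {V₀ : D} (φ₀ : U ⟶ f.fn.obj V₀) (r : O_D.obj.obj (op V₀))
    (h : shRes (invRMor f) φ₀ r = 0) :
    Loc J U fun W g => ∃ (V : D) (a : V ⟶ V₀) (ψ : W ⟶ f.fn.obj V),
      g ≫ φ₀ = ψ ≫ f.fn.map a ∧ ores O_D a.op r = 0 := by
  classical
  haveI := ((J.W_iff_isLocallyBijective _).1 (J.W_toSheafify (ringModel f))).1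
  have h1 : rUnit f U (rcls f V₀ φ₀ r) = rUnit f U 0 := by
    rw [← κR_shRes, h, map_zero, map_zero]
  refine Loc.bind ⟨_, Presheaf.equalizerSieve_mem J (CategoryTheory.toSheafify J (ringModel f))
    (X := op U) (rcls f V₀ φ₀ r) 0 h1, fun _ _ hg => hg⟩ fun W g hg => ?_
  have hz : rX f V₀ (g ≫ φ₀) r ∈ idl f W := Ideal.Quotient.eq_zero_iff_mem.1
    ((map_rcls f g V₀ φ₀ r).symm.trans (hg.trans (map_zero _)))
  obtain ⟨c, hcs, hsum⟩ := Submodule.mem_span_set.1 hz
  choose q hq using fun p : c.support => hcs p.2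
  let R : Finset (RRel f W) := Finset.univ.image q
  let P : Finset (Node f W) := insert ⟨V₀, g ≫ φ₀⟩ (R.biUnion fun p => match p with
    | .one V φ => {⟨V, φ⟩}
    | .add V φ _ _ => {⟨V, φ⟩}
    | .mul V φ _ _ => {⟨V, φ⟩}
    | .trans V V' φ a _ => {⟨V, φ⟩, ⟨V', φ ≫ f.fn.map a⟩})
  let T : Finset (Σ p : Node f W, Σ q : Node f W, (p.1 ⟶ q.1)) := R.biUnion fun p => match p with
    | .one _ _ => ∅
    | .add _ _ _ _ => ∅
    | .mul _ _ _ _ => ∅
    | .trans V V' φ a _ => {⟨⟨V, φ⟩, ⟨V', φ ≫ f.fn.map a⟩, a⟩}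
  have hT : ∀ t ∈ T, t.1 ∈ P ∧ t.2.1 ∈ P ∧ t.2.1.2 = t.1.2 ≫ f.fn.map t.2.2 := by
    intro t ht
    obtain ⟨p, hp, hpt⟩ := Finset.mem_biUnion.1 ht
    cases p with
    | trans V V' φ a x =>
      obtain rfl := Finset.mem_singleton.1 hpt
      exact ⟨Finset.mem_insert_of_mem (Finset.mem_biUnion.2 ⟨_, hp, Finset.mem_insert_self _ _⟩),
        Finset.mem_insert_of_mem (Finset.mem_biUnion.2 ⟨_, hp, Finset.mem_insert_of_mem
          (Finset.mem_singleton_self _)⟩), rfl⟩
    | _ => simp at hpt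
  refine Loc.bind (loc_dominate f (g ≫ φ₀) P T hT) fun W' k hk => ?_
  obtain ⟨V, ψ, a, a₀, ha₀, ha₀', ha, haT⟩ := hk
  refine Loc.of_forall fun W'' l => ?_
  refine ⟨V, a₀, l ≫ ψ, by simp only [Category.assoc, ha₀], ?_⟩
  let val : RVar f W → O_D.obj.obj (op V) := fun s =>
    if hs : (⟨s.1, s.2.1⟩ : Node f W) ∈ P then ores O_D (a _ hs).op s.2.2 else 0
  let E : RPoly f W →+* O_D.obj.obj (op V) := MvPolynomial.eval₂Hom (Int.castRingHom _) val
  have hE : ∀ (V' : D) (φ : W ⟶ f.fn.obj V') (y : O_D.obj.obj (op V'))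
      (hs : (⟨V', φ⟩ : Node f W) ∈ P), E (rX f V' φ y) = ores O_D (a _ hs).op y :=
    fun V' φ y hs => (MvPolynomial.eval₂Hom_X' _ _ _).trans (dif_pos hs)
  have hp₀ : (⟨V₀, g ≫ φ₀⟩ : Node f W) ∈ P := Finset.mem_insert_self _ _
  have hR : ∀ p ∈ R, E (rrelVal f p) = 0 := by
    intro p hp
    cases p with
    | one V' φ =>
      have hs : (⟨V', φ⟩ : Node f W) ∈ P :=
        Finset.mem_insert_of_mem (Finset.mem_biUnion.2 ⟨_, hp, Finset.mem_singleton_self _⟩)
      simp only [rrelVal, map_sub, hE _ _ _ hs, map_one, sub_self]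
    | add V' φ y y' =>
      have hs : (⟨V', φ⟩ : Node f W) ∈ P :=
        Finset.mem_insert_of_mem (Finset.mem_biUnion.2 ⟨_, hp, Finset.mem_singleton_self _⟩)
      simp only [rrelVal, map_sub, hE _ _ _ hs, map_add]
      ring
    | mul V' φ y y' =>
      have hs : (⟨V', φ⟩ : Node f W) ∈ P :=
        Finset.mem_insert_of_mem (Finset.mem_biUnion.2 ⟨_, hp, Finset.mem_singleton_self _⟩)
      simp only [rrelVal, map_sub, map_mul, hE _ _ _ hs, sub_self]
    | trans V₁ V₂ φ b y =>
      have hs₁ : (⟨V₁, φ⟩ : Node f W) ∈ P :=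
        Finset.mem_insert_of_mem (Finset.mem_biUnion.2 ⟨_, hp, Finset.mem_insert_self _ _⟩)
      have hs₂ : (⟨V₂, φ ≫ f.fn.map b⟩ : Node f W) ∈ P :=
        Finset.mem_insert_of_mem (Finset.mem_biUnion.2 ⟨_, hp, Finset.mem_insert_of_mem
          (Finset.mem_singleton_self _)⟩)
      have hb := haT ⟨⟨V₁, φ⟩, ⟨V₂, φ ≫ f.fn.map b⟩, b⟩
        (Finset.mem_biUnion.2 ⟨_, hp, Finset.mem_singleton_self _⟩) hs₁ hs₂
      simp only [rrelVal, map_sub, hE _ _ _ hs₂, hE _ _ _ hs₁]
      rw [sub_eq_zero, ← ores_comp, ← op_comp, hb]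
  have h0 : E (rX f V₀ (g ≫ φ₀) r) = 0 := by
    rw [← hsum, map_finsuppSum]
    refine Finset.sum_eq_zero fun p hp => ?_
    show E (c p • p) = 0
    rw [smul_eq_mul, map_mul, show E p = 0 from (congrArg E (hq ⟨p, hp⟩)).symm.trans
      (hR _ (Finset.mem_image_of_mem q (Finset.mem_univ (⟨p, hp⟩ : c.support)))), mul_zero]
  rw [hE _ _ _ hp₀, ha₀' hp₀] at h0
  exact h0

/-- Inverse image preserves monomorphisms when the structure sheaf is flat over the inverse image. -/
theorem mono_pull_of_isFlat_baseMod (hf : ModSite.IsFlat f.baseMod) {F G : ModSite.Mod O_D}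
    (q : F ⟶ G) [Mono q] : Mono (f.pull.map q) := by
  classical
  suffices h : ∀ (U : C) (s : (pre O_C (f.pull.obj F)).obj (op U)),
      lin ((preFunctor O_C).map (f.pull.map q)) (op U) s = 0 → s = 0 by
    haveI : Mono ((SheafOfModules.forget (ModSite.ringSh O_C)).map (f.pull.map q)) :=
      PresheafOfModules.mono_of_injective fun {X} a b hab => by
        obtain ⟨U⟩ := X
        exact sub_eq_zero.1 (h U (a - b)
          ((map_sub (lin ((preFunctor O_C).map (f.pull.map q)) (op U)) a b).trans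
            (sub_eq_zero.2 hab)))
    exact (SheafOfModules.forget (ModSite.ringSh O_C)).mono_of_mono_map inferInstance
  intro U s hs
  refine eq_zero_of_loc _ s ?_
  refine Loc.bind (loc_exists_gen f F (fun _ : PUnit.{1} => s)) fun W g hg => ?_
  obtain ⟨V, ψ, n, x, E, hE⟩ := hg
  let gx : Fin n → (pre O_D G).obj (op V) := fun i => lin ((preFunctor O_D).map q) (op V) (x i)
  have hrel : ∑ i, E PUnit.unit i • gen f G V ψ (gx i) = 0 := by
    have h1 := congrArg (lin ((preFunctor O_C).map (f.pull.map q)) (op W)) (hE PUnit.unit)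
    rw [lin_res, hs, map_zero, map_sum] at h1
    refine Eq.trans ?_ h1.symm
    simp only [map_smul, lin_pull_gen, gx]
  refine Loc.bind (loc_of_sum_gen_eq_zero f G ψ gx _ hrel) fun W₁ g₁ hg₁ => ?_
  obtain ⟨V₁, a₁, ψ₁, h₁, l, m, t, A, A', y, hy, hy', hA⟩ := hg₁
  refine Loc.bind ⟨_, goodSieve_mem_of_single f.invRing f.baseMod
    (goodSieve_mem_of_isFlat f.invRing f.baseMod hf)
    (fun (i : ULift.{u} (Fin l)) (j : ULift.{u} (Fin m)) => shRes (invRMor f) ψ₁ (A' i.down j.down))
    (fun j => y j.down) (fun i => by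
      refine Eq.trans ?_ ((Equiv.ulift.sum_comp fun j => shRes f ψ₁ (A' i.down j) * y j).trans (hy' i.down))
      refine Finset.sum_congr rfl fun j _ => ?_
      show (f.invSharp.hom.app (op W₁)).hom _ * _ = _
      rw [invSharp_shRes]
      rfl), fun _ _ hg => hg⟩ fun W₂ g₂ hg₂ => ?_
  obtain ⟨ν, _, z, b, hz, hb⟩ := hg₂
  refine Loc.bind (loc_exists_inv f (fun jp : ULift.{u} (Fin m) × ν => b jp.1 jp.2)) fun W₃ g₃ hg₃ => ?_
  obtain ⟨V₂, ψ₂, β, hβ⟩ := hg₃
  refine Loc.bind (loc_nodes f ({⟨V₁, (g₃ ≫ g₂) ≫ ψ₁⟩, ⟨V₂, ψ₂⟩} : Finset (Node f W₃)))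
    fun W₄ g₄ hg₄ => ?_
  obtain ⟨V₃, ψ₃, hψ₃⟩ := hg₄
  obtain ⟨c₁, hc₁⟩ := hψ₃ ⟨V₁, (g₃ ≫ g₂) ≫ ψ₁⟩ (Finset.mem_insert_self _ _)
  obtain ⟨c₂, hc₂⟩ := hψ₃ ⟨V₂, ψ₂⟩ (Finset.mem_insert_of_mem (Finset.mem_singleton_self _))
  let γ : Fin l × ν → O_D.obj.obj (op V₃) := fun ip =>
    ∑ j, ores O_D c₂.op (β (⟨j⟩, ip.2)) * ores O_D c₁.op (A' ip.1 j)
  have hγ : ∀ ip, shRes (invRMor f) ψ₃ (γ ip) = 0 := by
    intro ip
    have h3 := congrArg (ores f.invRing (g₄ ≫ g₃).op) (hb ⟨ip.1⟩ ip.2)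
    rw [map_zero, map_sum] at h3
    rw [map_sum]
    refine Eq.trans ?_ h3
    refine Eq.trans ?_ (Equiv.ulift.symm.sum_comp fun j : ULift.{u} (Fin m) => ores f.invRing (g₄ ≫ g₃).op
      (b j ip.2 * ores f.invRing g₂.op (shRes (invRMor f) ψ₁ (A' ip.1 j.down))))
    refine Finset.sum_congr rfl fun j _ => ?_
    rw [map_mul, map_mul]
    refine congrArg₂ (· * ·) ?_ ?_
    · rw [shRes_ores, ← hc₂, shRes_comp, ← hβ, ← ores_comp, ← op_comp]
      rfl
    · rw [shRes_ores, ← hc₁, ← shRes_comp (invRMor f), ← shRes_comp (invRMor f)]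
      simp only [Category.assoc]
      rfl
  refine Loc.bind (Loc.forall_fintype fun ip => loc_of_shRes_eq_zero f ψ₃ (γ ip) (hγ ip))
    fun W₅ g₅ hg₅ => ?_
  choose V₄ a₄ ψ₄ h₄ hγ₄ using hg₅
  let n₃ : Node f W₅ := ⟨V₃, g₅ ≫ ψ₃⟩
  let N : Fin l × ν → Node f W₅ := fun ip => ⟨V₄ ip, ψ₄ ip⟩
  let P : Finset (Node f W₅) := insert n₃ (Finset.univ.image N)
  let T : Finset (Σ p : Node f W₅, Σ q : Node f W₅, (p.1 ⟶ q.1)) :=
    Finset.univ.image fun ip => ⟨N ip, n₃, a₄ ip⟩
  have hT : ∀ r ∈ T, r.1 ∈ P ∧ r.2.1 ∈ P ∧ r.2.1.2 = r.1.2 ≫ f.fn.map r.2.2 := by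
    intro r hr
    obtain ⟨ip, -, rfl⟩ := Finset.mem_image.1 hr
    exact ⟨Finset.mem_insert_of_mem (Finset.mem_image_of_mem N (Finset.mem_univ ip)),
      Finset.mem_insert_self _ _, h₄ ip⟩
  refine Loc.bind (loc_dominate f (g₅ ≫ ψ₃) P T hT) fun W₆ g₆ hg₆ => ?_
  obtain ⟨V₅, ψ₅, c, c₀, hc₀, hc₀', hc, hcT⟩ := hg₆
  have hγ₅ : ∀ ip, ores O_D c₀.op (γ ip) = 0 := fun ip => by
    have e : c (N ip) (Finset.mem_insert_of_mem (Finset.mem_image_of_mem N (Finset.mem_univ ip))) ≫ a₄ ip =
        c₀ :=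
      (hcT ⟨N ip, n₃, a₄ ip⟩ (Finset.mem_image_of_mem _ (Finset.mem_univ ip))
        (Finset.mem_insert_of_mem (Finset.mem_image_of_mem N (Finset.mem_univ ip)))
        (Finset.mem_insert_self _ _)).trans (hc₀' (Finset.mem_insert_self _ _))
    rw [← e, op_comp, ores_comp, hγ₄ ip, map_zero]
  refine Loc.of_forall fun W₇ g₇ => ?_
  let φ := g₇ ≫ ψ₅
  let τ := g₇ ≫ g₆ ≫ g₅ ≫ g₄
  let χ := τ ≫ g₃ ≫ g₂
  let d := c₀ ≫ c₁
  let d₂ := c₀ ≫ c₂
  have hd : χ ≫ ψ₁ = φ ≫ f.fn.map d := by
    simp only [χ, τ, φ, d, f.fn.map_comp, Category.assoc]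
    rw [← reassoc_of% hc₀]
    simp only [← hc₁, Category.assoc]
  have hd₂ : τ ≫ ψ₂ = φ ≫ f.fn.map d₂ := by
    simp only [τ, φ, d₂, f.fn.map_comp, Category.assoc]
    rw [← reassoc_of% hc₀]
    simp only [← hc₂]
  let β' : Fin m → ν → O_D.obj.obj (op V₅) := fun j k => ores O_D d₂.op (β (⟨j⟩, k))
  have hy₅ : ∀ j, ores O_C χ.op (y j) =
      ∑ k, shRes f φ (β' j k) * ores O_C (τ ≫ g₃).op (z k) := fun j => by
    have h3 : ores O_C g₂.op (y j) =
        ∑ k, (f.invSharp.hom.app (op W₂)).hom (b ⟨j⟩ k) * (show O_C.obj.obj (op W₂) from z k) := hz ⟨j⟩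
    rw [show χ = (τ ≫ g₃) ≫ g₂ by simp [χ], op_comp, ores_comp, h3, map_sum]
    refine Finset.sum_congr rfl fun k _ => ?_
    rw [map_mul]
    refine congrArg (· * _) ?_
    refine (congr(($(f.invSharp.hom.naturality (τ ≫ g₃).op)).hom (b ⟨j⟩ k))).symm.trans ?_
    show (f.invSharp.hom.app (op W₇)).hom (ores f.invRing (τ ≫ g₃).op (b ⟨j⟩ k)) = _
    rw [op_comp, ores_comp, hβ (⟨j⟩, k)]
    show (f.invSharp.hom.app (op W₇)).hom (ores f.invRing τ.op _) = _
    rw [← shRes_comp, hd₂, ← shRes_ores, invSharp_shRes]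
  let x' : Fin n → (pre O_D F).obj (op V₅) := fun i => res (pre O_D F) (d ≫ a₁).op (x i)
  have hw : ∀ k, ∑ j, β' j k • ∑ i, ores O_D d.op (A i j) • x' i = 0 := fun k => by
    apply injective_of_mono q (op V₅)
    rw [map_zero, map_sum]
    have hj : ∀ j, lin ((preFunctor O_D).map q) (op V₅) (∑ i, ores O_D d.op (A i j) • x' i) =
        -∑ r, ores O_D d.op (A' r j) • res (pre O_D G) d.op (t r) := fun j => by
      have h4 := congrArg (res (pre O_D G) d.op) (hA j)
      rw [map_zero, map_add, map_sum, map_sum] at h4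
      simp only [res_smul] at h4
      rw [map_sum]
      refine Eq.trans ?_ (eq_neg_of_add_eq_zero_left h4)
      refine Finset.sum_congr rfl fun i _ => ?_
      rw [map_smul]
      refine congrArg _ ?_
      simp only [x', lin_res, op_comp, res_comp, gx]
    refine (Finset.sum_congr rfl fun j _ => (map_smul _ _ _).trans (congrArg _ (hj j))).trans ?_
    simp only [smul_neg, Finset.sum_neg_distrib, Finset.smul_sum, smul_smul, neg_eq_zero]
    rw [Finset.sum_comm]
    refine Finset.sum_eq_zero fun r _ => ?_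
    rw [← Finset.sum_smul]
    refine (congrArg (· • _) ?_).trans (zero_smul _ _)
    refine Eq.trans ?_ (hγ₅ (r, k))
    simp only [γ, map_sum, map_mul, β', d, d₂, op_comp, ores_comp]
  show res (pre O_C (f.pull.obj F)) (((((((g₇ ≫ g₆) ≫ g₅) ≫ g₄) ≫ g₃) ≫ g₂) ≫ g₁) ≫ g).op s = 0
  rw [show ((((((g₇ ≫ g₆) ≫ g₅) ≫ g₄) ≫ g₃) ≫ g₂) ≫ g₁) ≫ g = (χ ≫ g₁) ≫ g by simp [χ, τ],
    op_comp, res_comp, hE PUnit.unit, map_sum]
  calc ∑ i, res (pre O_C (f.pull.obj F)) (χ ≫ g₁).op (E PUnit.unit i • gen f F V ψ (x i))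
      = ∑ i, ∑ j, ores O_C χ.op (y j) • gen f F V₅ φ (ores O_D d.op (A i j) • x' i) := by
        refine Finset.sum_congr rfl fun i _ => ?_
        rw [res_smul, res_gen]
        simp only [x', gen_smul, smul_smul, ← Finset.sum_smul, gen_trans]
        refine congrArg₂ (· • ·) ?_ (congrArg (fun p => gen f F V p (x i)) ?_)
        · rw [op_comp, ores_comp]
          refine (congrArg (ores O_C χ.op) (hy i)).trans ?_
          rw [map_sum]
          refine Finset.sum_congr rfl fun j _ => ?_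
          rw [map_mul, mul_comm, shRes_change f χ ψ₁ φ d hd]
        · rw [f.fn.map_comp, ← Category.assoc φ, ← hd, Category.assoc χ ψ₁, ← h₁]
          simp [χ]
    _ = ∑ k, ores O_C (τ ≫ g₃).op (z k) •
          gen f F V₅ φ (∑ j, β' j k • ∑ i, ores O_D d.op (A i j) • x' i) := by
        rw [Finset.sum_comm]
        simp only [gen_sum, gen_smul, Finset.smul_sum, smul_smul, hy₅, Finset.sum_mul, Finset.sum_smul,
          map_mul]
        conv_rhs => rw [Finset.sum_comm]
        refine Finset.sum_congr rfl fun j _ => ?_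
        rw [Finset.sum_comm]
        refine Finset.sum_congr rfl fun k _ => Finset.sum_congr rfl fun i _ => ?_
        congr 1
        ring
    _ = 0 := Finset.sum_eq_zero fun k _ => by rw [hw k, gen_zero, smul_zero]

/-- The inverse image is exact when the structure sheaf is flat over the inverse image. -/
theorem rmor_isFlat (hf : ModSite.IsFlat f.baseMod) : f.IsFlat := by
  haveI : PreservesFiniteColimits f.pull := by
    haveI := f.adj.leftAdjoint_preservesColimits
    infer_instance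
  haveI : f.pull.Additive := f.adj.left_adjoint_additive
  haveI : f.pull.PreservesMonomorphisms := ⟨fun q _ => mono_pull_of_isFlat_baseMod f hf q⟩
  haveI : f.pull.PreservesHomology :=
    Functor.preservesHomology_of_preservesMonos_and_cokernels _
  exact Functor.preservesFiniteLimits_of_preservesHomology _

end Groth.Agent.PullFlat
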