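import Groth.Agent.PullFlat.Model

/-!
# Local form of sections of an inverse image
-/

set_option autoImplicit false
set_option linter.style.haveILetI false
set_option linter.unusedSectionVars false

universe u v w

open CategoryTheory Limits Opposite TensorProduct

noncomputable section

namespace Groth.Agent.PullFlat

open Groth.Agent.ModTensor

section Loc

variable {C : Type u} [SmallCategory C] (J : GrothendieckTopology C)

/-- A property holding on a covering. -/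
def Loc (U : C) (P : ∀ ⦃W : C⦄, (W ⟶ U) → Prop) : Prop :=
  ∃ S ∈ J U, ∀ ⦃W : C⦄ (g : W ⟶ U), S g → P g

variable {J}

theorem Loc.of_forall {U : C} {P : ∀ ⦃W : C⦄, (W ⟶ U) → Prop} (h : ∀ ⦃W : C⦄ (g : W ⟶ U), P g) :
    Loc J U P :=
  ⟨⊤, J.top_mem U, fun _ g _ => h g⟩

theorem Loc.bind {U : C} {P Q : ∀ ⦃W : C⦄, (W ⟶ U) → Prop} (h : Loc J U P)
    (h' : ∀ ⦃W : C⦄ (g : W ⟶ U), P g → Loc J W fun _ k => Q (k ≫ g)) : Loc J U Q := by
  classical
  obtain ⟨S, hS, hP⟩ := h
  choose T hT hQ using fun (W : C) (g : W ⟶ U) (hg : S g) => h' g (hP g hg)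
  refine ⟨Sieve.bind S (fun W g hg => T W g hg), J.bind_covering hS (fun W g hg => hT W g hg), ?_⟩
  rintro W _ ⟨W', k, g, hg, hk, rfl⟩
  exact hQ W' g hg k hk

theorem Loc.forall_fintype {U : C} {ι : Type w} [Fintype ι] {P : ι → ∀ ⦃W : C⦄, (W ⟶ U) → Prop}
    (h : ∀ i, Loc J U (P i)) : Loc J U fun _ g => ∀ i, P i g := by
  classical
  choose S hS hP using h
  exact ⟨Finset.univ.inf S, Finset.inf_induction (p := fun T => T ∈ J U) (J.top_mem U)
      (fun a ha b hb => J.intersection_covering ha hb) (fun i _ => hS i),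
    fun W g hg i => hP i g ((Finset.inf_le (Finset.mem_univ i) : Finset.univ.inf S ≤ S i) _ hg)⟩

end Loc

/-- A vanishing sum of tensors, with the extra generators made explicit. -/
theorem exists_trivialization {R : Type u} [CommRing R] {M : Type v} [AddCommGroup M] [Module R M]
    {N : Type w} [AddCommGroup N] [Module R N] {n : ℕ} (x : Fin n → M) (e : Fin n → N)
    (h : ∑ k, x k ⊗ₜ[R] e k = 0) :
    ∃ (l m : ℕ) (t : Fin l → M) (A : Fin n → Fin m → R) (A' : Fin l → Fin m → R) (y : Fin m → N),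
      (∀ k, e k = ∑ j, A k j • y j) ∧ (∀ i, ∑ j, A' i j • y j = 0) ∧
        ∀ j, ∑ k, A k j • x k + ∑ i, A' i j • t i = 0 := by
  let P : Submodule R M := Submodule.span R (Set.range x)
  have hP : P.FG := Submodule.fg_span (Set.finite_range x)
  have hxP : ∀ k, x k ∈ P := fun k => Submodule.subset_span (Set.mem_range_self k)
  obtain ⟨Q, hPQ, hQ, hQ0⟩ := TensorProduct.eq_zero_of_fg_of_subtype_eq_zero hP
    (t := ∑ k, (⟨x k, hxP k⟩ : P) ⊗ₜ[R] e k) (by simpa using h)
  simp only [map_sum, LinearMap.rTensor_tmul] at hQ0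
  obtain ⟨l, g, hg⟩ := Submodule.fg_iff_exists_fin_generating_family.mp hQ
  have hgm : ∀ i, g i ∈ Q := fun i => hg ▸ Submodule.subset_span (Set.mem_range_self i)
  let q : Fin n ⊕ Fin l → Q :=
    Sum.elim (fun k => Submodule.inclusion hPQ ⟨x k, hxP k⟩) (fun i => ⟨g i, hgm i⟩)
  have hspan : Submodule.span R (Set.range q) = ⊤ := by
    refine Submodule.map_injective_of_injective Q.subtype_injective ?_
    rw [Submodule.map_span, Submodule.map_top, Submodule.range_subtype]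
    refine le_antisymm (Submodule.span_le.mpr ?_) (hg.symm.trans_le (Submodule.span_mono ?_))
    · rintro _ ⟨_, ⟨i, rfl⟩, rfl⟩
      exact (q i).2
    · rintro _ ⟨i, rfl⟩
      exact ⟨q (Sum.inr i), Set.mem_range_self _, rfl⟩
  obtain ⟨m, A, y, hy, hA⟩ := TensorProduct.vanishesTrivially_of_sum_tmul_eq_zero R
    (m := q) (n := Sum.elim e (0 : Fin l → N)) hspan (by
      rw [Fintype.sum_sum_type]
      simpa [q] using hQ0)
  refine ⟨l, m, g, fun k => A (Sum.inl k), fun i => A (Sum.inr i), y, fun k => hy (Sum.inl k),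
    fun i => (hy (Sum.inr i)).symm, fun j => ?_⟩
  have hj := congrArg Q.subtype (hA j)
  rw [Fintype.sum_sum_type, map_add, map_sum, map_sum, map_zero] at hj
  exact hj

variable {C D : Type u} [SmallCategory C] [SmallCategory D] {J : GrothendieckTopology C}
  {K : GrothendieckTopology D} {O_C : Sheaf J CommRingCat.{u}} {O_D : Sheaf K CommRingCat.{u}}
  (f : ModSite.RMor O_C O_D) (F : ModSite.Mod O_D)

/-- A pair of an object and a map to its image. -/
abbrev Node (U : C) : Type u := Σ V : D, U ⟶ f.fn.obj V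

/-- Finitely many maps to the image locally factor through one. -/
theorem loc_nodes {U : C} (P : Finset (Node f U)) :
    Loc J U fun W g => ∃ (V : D) (ψ : W ⟶ f.fn.obj V),
      ∀ p ∈ P, ∃ a : V ⟶ p.1, g ≫ p.2 = ψ ≫ f.fn.map a := by
  classical
  induction P using Finset.induction with
  | empty =>
    obtain ⟨S, hS, h⟩ := exists_cover_obj J K f.fn U
    exact ⟨S, hS, fun W g hg => let ⟨V, ⟨ψ⟩⟩ := h g hg; ⟨V, ψ, fun p hp => absurd hp (Finset.notMem_empty p)⟩⟩
  | insert q P hq ih =>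
    refine Loc.bind ih fun W g hg => ?_
    obtain ⟨V, ψ, hψ⟩ := hg
    obtain ⟨S, hS, h⟩ := exists_cover_pair J K f.fn ψ (g ≫ q.2)
    refine ⟨S, hS, fun W' k hk => ?_⟩
    obtain ⟨V', ψ', b, a, hb, ha⟩ := h k hk
    refine ⟨V', ψ', fun p hp => ?_⟩
    rcases Finset.mem_insert.1 hp with rfl | hp
    · exact ⟨a, (Category.assoc k g _).trans ha⟩
    · obtain ⟨c, hc⟩ := hψ p hp
      exact ⟨b ≫ c, by rw [Category.assoc, hc, ← Category.assoc, hb, Category.assoc, ← f.fn.map_comp]⟩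

/-- Finitely many pairs of maps with equal images are locally equalized. -/
theorem loc_equalize {U : C} {V : D} (φ : U ⟶ f.fn.obj V) (E : Finset (Σ V' : D, (V ⟶ V') × (V ⟶ V')))
    (hE : ∀ x ∈ E, φ ≫ f.fn.map x.2.1 = φ ≫ f.fn.map x.2.2) :
    Loc J U fun W g => ∃ (V' : D) (ψ : W ⟶ f.fn.obj V') (e : V' ⟶ V),
      g ≫ φ = ψ ≫ f.fn.map e ∧ ∀ x ∈ E, e ≫ x.2.1 = e ≫ x.2.2 := by
  classical
  induction E using Finset.induction with
  | empty =>
    exact Loc.of_forall fun W g => ⟨V, g ≫ φ, 𝟙 V, by simp, fun x hx => absurd hx (Finset.notMem_empty x)⟩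
  | insert q E hq ih =>
    refine Loc.bind (ih fun x hx => hE x (Finset.mem_insert_of_mem hx)) fun W g hg => ?_
    obtain ⟨V', ψ, e, he, he'⟩ := hg
    have h0 : ψ ≫ f.fn.map (e ≫ q.2.1) = ψ ≫ f.fn.map (e ≫ q.2.2) := by
      rw [f.fn.map_comp, f.fn.map_comp, ← Category.assoc, ← Category.assoc, ← he, Category.assoc,
        Category.assoc, hE q (Finset.mem_insert_self q E)]
    obtain ⟨S, hS, h⟩ := exists_cover_eq J K f.fn ψ (e ≫ q.2.1) (e ≫ q.2.2) h0
    refine ⟨S, hS, fun W' k hk => ?_⟩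
    obtain ⟨V'', ψ', c, hc, hc'⟩ := h k hk
    refine ⟨V'', ψ', c ≫ e, by rw [Category.assoc, he, ← Category.assoc, hc, Category.assoc, ← f.fn.map_comp],
      fun x hx => ?_⟩
    rcases Finset.mem_insert.1 hx with rfl | hx
    · simpa only [Category.assoc] using hc'
    · rw [Category.assoc, Category.assoc, he' x hx]

/-- A finite system of maps to the image locally factors compatibly through one. -/
theorem loc_dominate {U : C} {V₀ : D} (φ₀ : U ⟶ f.fn.obj V₀) (P : Finset (Node f U))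
    (T : Finset (Σ p : Node f U, Σ q : Node f U, (p.1 ⟶ q.1)))
    (hT : ∀ t ∈ T, t.1 ∈ P ∧ t.2.1 ∈ P ∧ t.2.1.2 = t.1.2 ≫ f.fn.map t.2.2) :
    Loc J U fun W g => ∃ (V : D) (ψ : W ⟶ f.fn.obj V) (a : ∀ p : Node f U, p ∈ P → (V ⟶ p.1))
      (a₀ : V ⟶ V₀), g ≫ φ₀ = ψ ≫ f.fn.map a₀ ∧ (∀ h₀ : (⟨V₀, φ₀⟩ : Node f U) ∈ P, a ⟨V₀, φ₀⟩ h₀ = a₀) ∧
        (∀ p h, g ≫ p.2 = ψ ≫ f.fn.map (a p h)) ∧
        ∀ t (_ : t ∈ T) (h₁ : t.1 ∈ P) (h₂ : t.2.1 ∈ P), a t.1 h₁ ≫ t.2.2 = a t.2.1 h₂ := by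
  classical
  let p₀ : Node f U := ⟨V₀, φ₀⟩
  refine Loc.bind (loc_nodes f (insert p₀ P)) fun W g hg => ?_
  obtain ⟨V, ψ, hψ⟩ := hg
  choose a ha using hψ
  let a' : ∀ p : Node f U, p ∈ P → (V ⟶ p.1) := fun p h => a p (Finset.mem_insert_of_mem h)
  let E : Finset (Σ V' : D, (V ⟶ V') × (V ⟶ V')) := T.attach.image fun t =>
    ⟨t.1.2.1.1, a' t.1.1 (hT t.1 t.2).1 ≫ t.1.2.2, a' t.1.2.1 (hT t.1 t.2).2.1⟩
  have hE : ∀ x ∈ E, ψ ≫ f.fn.map x.2.1 = ψ ≫ f.fn.map x.2.2 := by
    intro x hx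
    obtain ⟨⟨t, ht⟩, -, rfl⟩ := Finset.mem_image.1 hx
    show ψ ≫ f.fn.map (a' t.1 (hT t ht).1 ≫ t.2.2) = ψ ≫ f.fn.map (a' t.2.1 (hT t ht).2.1)
    rw [f.fn.map_comp, ← Category.assoc, ← ha, ← ha, (hT t ht).2.2, Category.assoc]
  refine Loc.bind (loc_equalize f ψ E hE) fun W' k hk => ?_
  obtain ⟨V', ψ', e, he, he'⟩ := hk
  refine Loc.of_forall fun W'' l => ?_
  refine ⟨V', l ≫ ψ', fun p h => e ≫ a' p h, e ≫ a p₀ (Finset.mem_insert_self _ _), ?_,
    fun h₀ => rfl, fun p h => ?_, fun t ht h₁ h₂ => ?_⟩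
  · simp only [f.fn.map_comp, Category.assoc]
    rw [reassoc_of% he.symm, ← ha]
  · simp only [f.fn.map_comp, Category.assoc]
    rw [reassoc_of% he.symm, ← ha]
  · have h := he' _ (Finset.mem_image.2 ⟨⟨t, ht⟩, Finset.mem_attach _ _, rfl⟩)
    rw [Category.assoc]
    exact h

theorem pullLin_eq_sum {W : C} (z : Sym f F W →₀ O_C.obj.obj (op W)) :
    pullLin f F W z = z.sum fun s c => c • gen f F s.1 s.2.1 s.2.2 := by
  rw [← Finsupp.linearCombination_apply]
  refine LinearMap.congr_fun (Finsupp.lhom_ext' fun s => LinearMap.ext_ring ?_) z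
  show pullLin f F W (Finsupp.single s 1) =
    Finsupp.linearCombination (O_C.obj.obj (op W)) (fun s : Sym f F W => gen f F s.1 s.2.1 s.2.2)
      (Finsupp.single s 1)
  rw [Finsupp.linearCombination_single, one_smul]
  exact freeToPull_sym f F s.1 s.2.1 s.2.2

/-- Sections of the inverse image are locally combinations of pulled back sections. -/
theorem loc_exists_gen {U : C} {ι : Type w} [Fintype ι] (s : ι → (pre O_C (f.pull.obj F)).obj (op U)) :
    Loc J U fun W g => ∃ (V : D) (ψ : W ⟶ f.fn.obj V) (n : ℕ) (x : Fin n → (pre O_D F).obj (op V))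
      (E : ι → Fin n → O_C.obj.obj (op W)),
        ∀ i, res (pre O_C (f.pull.obj F)) g.op (s i) = ∑ k, E i k • gen f F V ψ (x k) := by
  classical
  haveI := ((J.W_iff_isLocallyBijective _).1 (W_shUnit O_C (model f F))).2
  have h1 : ∀ i, Loc J U fun W g => ∃ z : Sym f F W →₀ O_C.obj.obj (op W),
      pullLin f F W z = res (pre O_C (f.pull.obj F)) g.op (s i) := fun i => by
    refine ⟨_, Presheaf.imageSieve_mem J ((PresheafOfModules.toPresheaf _).map (shUnit O_C (model f F)))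
      (lin ((preFunctor O_C).map (κ f F)) (op U) (s i)), fun W g hg => ?_⟩
    obtain ⟨t, ht⟩ := hg
    obtain ⟨z, rfl⟩ := surjective_modelπ f F (op W) t
    refine ⟨z, ?_⟩
    have e1 : pullLin f F W z = lin ((preFunctor O_C).map (θ f F)) (op W)
        (lin (shUnit O_C (model f F)) (op W) (lin (modelπ f F) (op W) z)) := by
      refine Eq.trans ?_ (congr(($(shUnit_θ f F)).app (op W) (lin (modelπ f F) (op W) z))).symm
      exact (congr(($(cokernel.π_desc _ (freeToPull f F) (relMap_freeToPull f F))).app (op W) z)).symm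
    refine e1.trans ((congrArg _ (ht.trans (lin_res ((preFunctor O_C).map (κ f F)) g.op (s i)).symm)).trans ?_)
    exact congr(($(κ_θ f F)).val.app (op W) (res (pre O_C (f.pull.obj F)) g.op (s i)))
  refine Loc.bind (Loc.forall_fintype h1) fun W g hg => ?_
  choose z hz using hg
  let S : Finset (Sym f F W) := Finset.univ.biUnion fun i => (z i).support
  refine Loc.bind (loc_nodes f (S.image fun s => (⟨s.1, s.2.1⟩ : Node f W))) fun W' k hk => ?_
  obtain ⟨V, ψ, hψ⟩ := hk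
  refine Loc.of_forall fun W'' l => ?_
  choose a ha using fun s : S => hψ _ (Finset.mem_image_of_mem _ s.2)
  let e := (Fintype.equivFin S).symm
  refine ⟨V, l ≫ ψ, Fintype.card S, fun j => res (pre O_D F) (a (e j)).op (e j).1.2.2,
    fun i j => ores O_C (l ≫ k).op (z i (e j).1), fun i => ?_⟩
  rw [op_comp, res_comp, ← hz i, pullLin_eq_sum,
    Finsupp.sum_of_support_subset (z i) (Finset.subset_biUnion_of_mem (fun i => (z i).support)
      (Finset.mem_univ i)) (fun s c => c • gen f F s.1 s.2.1 s.2.2) (fun _ _ => zero_smul _ _),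
    map_sum, ← Finset.sum_coe_sort S]
  refine Eq.trans ?_ (e.sum_comp (fun s : S => ores O_C (l ≫ k).op (z i s.1) •
    gen f F V (l ≫ ψ) (res (pre O_D F) (a s).op s.1.2.2))).symm
  refine Finset.sum_congr rfl fun s _ => ?_
  rw [res_smul, res_gen, gen_trans]
  congr 2
  rw [Category.assoc, Category.assoc, ha s]

/-- The trivialization of a relation between pulled back sections. -/
abbrev IsTriv {W : C} {V : D} (ψ : W ⟶ f.fn.obj V) {n : ℕ} (x : Fin n → (pre O_D F).obj (op V))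
    (e : Fin n → O_C.obj.obj (op W)) : Prop :=
  ∃ (l m : ℕ) (t : Fin l → (pre O_D F).obj (op V)) (A : Fin n → Fin m → O_D.obj.obj (op V))
    (A' : Fin l → Fin m → O_D.obj.obj (op V)) (y : Fin m → O_C.obj.obj (op W)),
      (∀ k, e k = ∑ j, shRes f ψ (A k j) * y j) ∧ (∀ i, ∑ j, shRes f ψ (A' i j) * y j = 0) ∧
        ∀ j, ∑ k, A k j • x k + ∑ i, A' i j • t i = 0

/-- Relations between pulled back sections are locally trivial. -/
theorem loc_of_sum_gen_eq_zero {U : C} {V₀ : D} (φ₀ : U ⟶ f.fn.obj V₀) {n : ℕ}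
    (x : Fin n → (pre O_D F).obj (op V₀)) (e : Fin n → O_C.obj.obj (op U))
    (h : ∑ k, e k • gen f F V₀ φ₀ (x k) = 0) :
    Loc J U fun W g => ∃ (V : D) (a : V ⟶ V₀) (ψ : W ⟶ f.fn.obj V), g ≫ φ₀ = ψ ≫ f.fn.map a ∧
      IsTriv f F ψ (fun k => res (pre O_D F) a.op (x k)) (fun k => ores O_C g.op (e k)) := by
  classical
  let z₀ : Sym f F U →₀ O_C.obj.obj (op U) :=
    ∑ k, Finsupp.single ⟨V₀, φ₀, x k⟩ (e k)
  have h0 : pullLin f F U z₀ = 0 := by
    refine Eq.trans ?_ h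
    rw [map_sum]
    refine Finset.sum_congr rfl fun k _ => ?_
    rw [← Finsupp.smul_single_one, map_smul, freeToPull_sym]
  have h1 : lin (shUnit O_C (model f F)) (op U) (πLin f F U z₀) = 0 := by
    have e1 : pullLin f F U z₀ = lin ((preFunctor O_C).map (θ f F)) (op U)
        (lin (shUnit O_C (model f F)) (op U) (πLin f F U z₀)) := by
      refine Eq.trans ?_ (congr(($(shUnit_θ f F)).app (op U) (πLin f F U z₀))).symm
      exact (congr(($(cokernel.π_desc _ (freeToPull f F) (relMap_freeToPull f F))).app (op U) z₀)).symm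
    have e2 := congr(($(θ_κ f F)).val.app (op U)
      (lin (shUnit O_C (model f F)) (op U) (πLin f F U z₀)))
    refine e2.symm.trans ?_
    exact (congrArg (lin ((preFunctor O_C).map (κ f F)) (op U)) (e1.symm.trans h0)).trans
      (map_zero (lin ((preFunctor O_C).map (κ f F)) (op U)))
  haveI := ((J.W_iff_isLocallyBijective _).1 (W_shUnit O_C (model f F))).1
  refine Loc.bind ⟨_, zeroSieve_mem_of_isLocallyInjective (shUnit O_C (model f F)) J
    (πLin f F U z₀) h1, fun _ _ hg => hg⟩ fun W g hg => ?_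
  let z : Sym f F W →₀ O_C.obj.obj (op W) :=
    ∑ k, Finsupp.single ⟨V₀, g ≫ φ₀, x k⟩ (ores O_C g.op (e k))
  have hres : res (freeSym f F) g.op z₀ = z := by
    refine Eq.trans (map_sum (res (freeSym f F) g.op)
      (fun k => (Finsupp.single ⟨V₀, φ₀, x k⟩ (e k) : Sym f F U →₀ O_C.obj.obj (op U))) Finset.univ) ?_
    exact Finset.sum_congr rfl fun k _ => res_freeSym_single f F g.op _ _
  have hz : πLin f F W z = 0 :=
    (congrArg (lin (modelπ f F) (op W)) hres.symm).trans ((lin_res (modelπ f F) g.op z₀).trans hg)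
  obtain ⟨r, hr⟩ := exists_rel_of_modelπ_eq_zero f F z hz
  let p₀ : Node f W := ⟨V₀, g ≫ φ₀⟩
  let P : Finset (Node f W) := insert p₀ (r.support.biUnion fun p => match p with
    | .add V φ _ _ => {⟨V, φ⟩}
    | .smul V φ _ _ => {⟨V, φ⟩}
    | .trans V V' φ a _ => {⟨V, φ⟩, ⟨V', φ ≫ f.fn.map a⟩})
  let T : Finset (Σ p : Node f W, Σ q : Node f W, (p.1 ⟶ q.1)) := r.support.biUnion fun p => match p with
    | .add _ _ _ _ => ∅
    | .smul _ _ _ _ => ∅
    | .trans V V' φ a _ => {⟨⟨V, φ⟩, ⟨V', φ ≫ f.fn.map a⟩, a⟩}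
  have hT : ∀ t ∈ T, t.1 ∈ P ∧ t.2.1 ∈ P ∧ t.2.1.2 = t.1.2 ≫ f.fn.map t.2.2 := by
    intro t ht
    obtain ⟨p, hp, hpt⟩ := Finset.mem_biUnion.1 ht
    cases p with
    | add V φ x y => simp at hpt
    | smul V φ c x => simp at hpt
    | trans V V' φ a x =>
      obtain rfl := Finset.mem_singleton.1 hpt
      exact ⟨Finset.mem_insert_of_mem (Finset.mem_biUnion.2 ⟨_, hp, Finset.mem_insert_self _ _⟩),
        Finset.mem_insert_of_mem (Finset.mem_biUnion.2 ⟨_, hp, Finset.mem_insert_of_mem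
          (Finset.mem_singleton_self _)⟩), rfl⟩
  refine Loc.bind (loc_dominate f (g ≫ φ₀) P T hT) fun W' k hk => ?_
  obtain ⟨V, ψ, a, a₀, ha₀, ha₀', ha, haT⟩ := hk
  refine Loc.of_forall fun W'' l => ?_
  letI : Algebra (O_D.obj.obj (op V)) (O_C.obj.obj (op W'')) := (shRes f (l ≫ ψ)).toAlgebra
  let val : Sym f F W → (pre O_D F).obj (op V) := fun s =>
    if hs : (⟨s.1, s.2.1⟩ : Node f W) ∈ P then res (pre O_D F) (a _ hs).op s.2.2 else 0
  let Φ : (Sym f F W →₀ O_C.obj.obj (op W)) →+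
      ((pre O_D F).obj (op V) : Type u) ⊗[O_D.obj.obj (op V)] O_C.obj.obj (op W'') :=
    Finsupp.liftAddHom fun s => AddMonoidHom.mk' (fun c => val s ⊗ₜ ores O_C (l ≫ k).op c)
      (fun c c' => by rw [map_add, TensorProduct.tmul_add])
  have hΦs : ∀ (s : Sym f F W) (c : O_C.obj.obj (op W)),
      Φ (Finsupp.single s c) = val s ⊗ₜ ores O_C (l ≫ k).op c := fun s c =>
    Finsupp.liftAddHom_apply_single _ s c
  have hval : ∀ (V' : D) (φ : W ⟶ f.fn.obj V') (y : (pre O_D F).obj (op V'))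
      (hs : (⟨V', φ⟩ : Node f W) ∈ P), val ⟨V', φ, y⟩ = res (pre O_D F) (a _ hs).op y :=
    fun V' φ y hs => dif_pos hs
  have hΦr : ∀ p ∈ r.support, Φ (r p • relVal f F p) = 0 := by
    intro p hp
    cases p with
    | add V' φ y y' =>
      have hs : (⟨V', φ⟩ : Node f W) ∈ P :=
        Finset.mem_insert_of_mem (Finset.mem_biUnion.2 ⟨_, hp, Finset.mem_singleton_self _⟩)
      simp only [relVal, smul_sub, Finsupp.smul_single, smul_eq_mul, mul_one, map_sub, hΦs,
        hval _ _ _ hs, map_add, TensorProduct.add_tmul]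
      abel
    | smul V' φ c y =>
      have hs : (⟨V', φ⟩ : Node f W) ∈ P :=
        Finset.mem_insert_of_mem (Finset.mem_biUnion.2 ⟨_, hp, Finset.mem_singleton_self _⟩)
      simp only [relVal, smul_sub, Finsupp.smul_single, smul_eq_mul, mul_one, map_sub, hΦs,
        hval _ _ _ hs, map_mul, res_smul, TensorProduct.smul_tmul]
      rw [Algebra.smul_def, sub_eq_zero, mul_comm]
      congr 2
      show shRes f (l ≫ ψ) (ores O_D (a _ hs).op c) = ores O_C (l ≫ k).op (shRes f φ c)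
      rw [shRes_ores, ← shRes_comp, Category.assoc, Category.assoc]
      exact congrArg (fun m => shRes f (l ≫ m) c) (ha _ hs).symm
    | trans V₁ V₂ φ b y =>
      have hs₁ : (⟨V₁, φ⟩ : Node f W) ∈ P :=
        Finset.mem_insert_of_mem (Finset.mem_biUnion.2 ⟨_, hp, Finset.mem_insert_self _ _⟩)
      have hs₂ : (⟨V₂, φ ≫ f.fn.map b⟩ : Node f W) ∈ P :=
        Finset.mem_insert_of_mem (Finset.mem_biUnion.2 ⟨_, hp, Finset.mem_insert_of_mem
          (Finset.mem_singleton_self _)⟩)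
      have hb := haT ⟨⟨V₁, φ⟩, ⟨V₂, φ ≫ f.fn.map b⟩, b⟩
        (Finset.mem_biUnion.2 ⟨_, hp, Finset.mem_singleton_self _⟩) hs₁ hs₂
      simp only [relVal, smul_sub, Finsupp.smul_single, smul_eq_mul, mul_one, map_sub, hΦs,
        hval _ _ _ hs₂, hval _ _ _ hs₁]
      rw [sub_eq_zero, ← res_comp, ← op_comp, hb]
  have hΦz : Φ z = 0 := by
    rw [← hr, map_finsuppSum]
    exact Finset.sum_eq_zero hΦr
  have hp₀ : p₀ ∈ P := Finset.mem_insert_self _ _
  have hsum : ∑ j, res (pre O_D F) a₀.op (x j) ⊗ₜ[O_D.obj.obj (op V)]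
      ores O_C (l ≫ k ≫ g).op (e j) = 0 := by
    refine Eq.trans ?_ hΦz
    rw [map_sum]
    refine Finset.sum_congr rfl fun j _ => ?_
    rw [hΦs, hval _ _ _ hp₀, ha₀' hp₀, ← ores_comp, ← op_comp, Category.assoc]
  obtain ⟨l', m, t, A, A', y, h₁, h₂, h₃⟩ := exists_trivialization _ _ hsum
  refine ⟨V, a₀, l ≫ ψ, ?_, l', m, t, A, A', y, fun j => ?_, fun i => ?_, h₃⟩
  · simp only [Category.assoc, ha₀]
  · refine Eq.trans ?_ (h₁ j)
    simp only [Category.assoc]
  · exact h₂ i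

end Groth.Agent.PullFlat
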