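import Mathlib

/-!
# Functors with left exact inverse image are covering flat
-/

set_option autoImplicit false
set_option linter.style.haveILetI false

universe u

open CategoryTheory Limits Opposite

noncomputable section

namespace Groth.Agent.PullFlat

variable {C D : Type u} [SmallCategory C] [SmallCategory D] (J : GrothendieckTopology C)
  (K : GrothendieckTopology D) (fn : D ⥤ C) [fn.IsContinuous K J]

/-- Left Kan extension followed by sheafification. -/
abbrev lanSh : (Dᵒᵖ ⥤ Type u) ⥤ Sheaf J (Type u) :=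
  fn.op.lan ⋙ presheafToSheaf J (Type u)

/-- Left Kan extension of presheaves computes the inverse image. -/
def lanShIso : lanSh J fn ≅ presheafToSheaf K (Type u) ⋙ fn.sheafPullback (Type u) K J :=
  Adjunction.leftAdjointUniq
    ((fn.op.lanAdjunction (Type u)).comp (sheafificationAdjunction J (Type u)))
    ((((sheafificationAdjunction K (Type u)).comp
      (fn.sheafAdjunctionContinuous (Type u) K J))).ofNatIsoRight (Iso.refl _))

variable {K}

/-- The image of a morphism, as a map of representable presheaves. -/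
def δ (V : D) : yoneda.obj V ⟶ fn.op ⋙ yoneda.obj (fn.obj V) where
  app W := ↾fun g => fn.map g
  naturality {W W'} h := by
    ext g
    exact fn.map_comp h.unop g

/-- Adjunct maps from left Kan extensions. -/
abbrev lanDesc {P : Dᵒᵖ ⥤ Type u} {R : Cᵒᵖ ⥤ Type u} (β : P ⟶ fn.op ⋙ R) : fn.op.lan.obj P ⟶ R :=
  ((fn.op.lanAdjunction (Type u)).homEquiv P R).symm β

/-- The comparison of representables. -/
abbrev eRep (V : D) : fn.op.lan.obj (yoneda.obj V) ⟶ yoneda.obj (fn.obj V) := lanDesc fn (δ fn V)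

theorem lanDesc_comp {P : Dᵒᵖ ⥤ Type u} {R R' : Cᵒᵖ ⥤ Type u} (β : P ⟶ fn.op ⋙ R) (a : R ⟶ R') :
    lanDesc fn β ≫ a = lanDesc fn (β ≫ Functor.whiskerLeft fn.op a) :=
  ((fn.op.lanAdjunction (Type u)).homEquiv_naturality_right_symm β a).symm

theorem map_lanDesc {P P' : Dᵒᵖ ⥤ Type u} {R : Cᵒᵖ ⥤ Type u} (a : P ⟶ P') (β : P' ⟶ fn.op ⋙ R) :
    fn.op.lan.map a ≫ lanDesc fn β = lanDesc fn (a ≫ β) :=
  ((fn.op.lanAdjunction (Type u)).homEquiv_naturality_left_symm a β).symm

theorem isIso_eRep (V : D) : IsIso (eRep fn V) := by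
  let adj := fn.op.lanAdjunction (Type u)
  refine ⟨yonedaEquiv.symm ((adj.unit.app (yoneda.obj V)).app (op V) (𝟙 V)), ?_, ?_⟩
  · apply (adj.homEquiv _ _).injective
    rw [adj.homEquiv_naturality_right, adj.homEquiv_id]
    refine yonedaEquiv.injective ?_
    show (yonedaEquiv.symm ((adj.unit.app (yoneda.obj V)).app (op V) (𝟙 V)) :
        yoneda.obj (fn.obj V) ⟶ fn.op.lan.obj (yoneda.obj V)).app (op (fn.obj V))
      (((adj.homEquiv _ _) (eRep fn V)).app (op V) (𝟙 V)) = (adj.unit.app (yoneda.obj V)).app (op V) (𝟙 V)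
    rw [show (adj.homEquiv _ _) (eRep fn V) = δ fn V from Equiv.apply_symm_apply _ _,
      show (δ fn V).app (op V) (𝟙 V) = 𝟙 (fn.obj V) from fn.map_id V]
    exact yonedaEquiv.apply_symm_apply _
  · apply yonedaEquiv.injective
    show (eRep fn V).app (op (fn.obj V)) ((fn.op.lan.obj (yoneda.obj V)).map (𝟙 (fn.obj V)).op
      ((adj.unit.app (yoneda.obj V)).app (op V) (𝟙 V))) = 𝟙 (fn.obj V)
    rw [op_id, CategoryTheory.Functor.map_id]
    have h : (adj.homEquiv _ _) (eRep fn V) = δ fn V := Equiv.apply_symm_apply _ _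
    rw [adj.homEquiv_unit] at h
    exact (congr($(h).app (op V) (𝟙 V))).trans (fn.map_id V)

/-- The sieve of the morphisms along which a section comes from `P`. -/
def factorSieve {P : Dᵒᵖ ⥤ Type u} {R : Cᵒᵖ ⥤ Type u} (β : P ⟶ fn.op ⋙ R) {U : C}
    (r : R.obj (op U)) : Sieve U where
  arrows W g := ∃ (V : D) (ψ : W ⟶ fn.obj V) (p : P.obj (op V)),
    R.map g.op r = R.map ψ.op (β.app (op V) p)
  downward_closed := by
    rintro W W' g ⟨V, ψ, p, h⟩ k
    exact ⟨V, k ≫ ψ, p, by rw [op_comp, Functor.map_comp_apply, h, op_comp, Functor.map_comp_apply]⟩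

/-- The sections which come from `P`. -/
def imageSub {P : Dᵒᵖ ⥤ Type u} {R : Cᵒᵖ ⥤ Type u} (β : P ⟶ fn.op ⋙ R) : Subfunctor R where
  obj W := {r | ∃ (V : D) (ψ : W.unop ⟶ fn.obj V) (p : P.obj (op V)),
    r = R.map ψ.op (β.app (op V) p)}
  map {W W'} h := by
    rintro r ⟨V, ψ, p, rfl⟩
    exact ⟨V, h.unop ≫ ψ, p, by rw [op_comp, Functor.map_comp_apply, Quiver.Hom.op_unop]⟩

theorem factorSieve_mem {P : Dᵒᵖ ⥤ Type u} {R : Cᵒᵖ ⥤ Type u} (β : P ⟶ fn.op ⋙ R)
    [IsIso ((presheafToSheaf J (Type u)).map (lanDesc fn β))] {U : C} (r : R.obj (op U)) :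
    factorSieve fn β r ∈ J U := by
  let β' : P ⟶ fn.op ⋙ (imageSub fn β).toFunctor :=
    { app := fun V => ↾fun p => ⟨β.app V p, V.unop, 𝟙 _, p, by simp⟩
      naturality := fun V V' h => by
        ext p
        exact Subtype.ext (congr($(β.naturality h) p)) }
  have hfac : lanDesc fn β' ≫ (imageSub fn β).ι = lanDesc fn β := by
    rw [lanDesc_comp]
    rfl
  have hW : J.W (lanDesc fn β) := (J.W_iff _).2 inferInstance
  haveI := ((J.W_iff_isLocallyBijective _).1 hW).2
  haveI : Presheaf.IsLocallySurjective J (imageSub fn β).ι :=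
    Presheaf.isLocallySurjective_of_isLocallySurjective_fac J hfac
  refine J.superset_covering (fun W g hg => ?_) (Presheaf.imageSieve_mem J (imageSub fn β).ι r)
  obtain ⟨⟨t, V, ψ, p, rfl⟩, ht⟩ := hg
  exact ⟨V, ψ, p, ht.symm⟩

section Diagram

variable {I : Type} [SmallCategory I] [FinCategory I] (F : I ⥤ D)

/-- Left Kan extension sends the representable presheaves to the representable presheaves. -/
def diagIso : (F ⋙ yoneda) ⋙ fn.op.lan ≅ (F ⋙ fn) ⋙ yoneda :=
  NatIso.ofComponents (fun i => @asIso _ _ _ _ (eRep fn (F.obj i)) (isIso_eRep fn _)) fun {i j} a => by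
    show fn.op.lan.map (yoneda.map (F.map a)) ≫ eRep fn (F.obj j) =
      eRep fn (F.obj i) ≫ yoneda.map (fn.map (F.map a))
    rw [map_lanDesc, lanDesc_comp]
    refine congrArg (lanDesc fn) ?_
    ext W g
    exact fn.map_comp g (F.map a)

/-- The comparison of finite limits of representable presheaves. -/
def limCompare : fn.op.lan.obj (limit (F ⋙ yoneda)) ⟶ limit ((F ⋙ fn) ⋙ yoneda) :=
  limit.lift _ ((Cone.postcompose (diagIso fn F).hom).obj (fn.op.lan.mapCone (limit.cone (F ⋙ yoneda))))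

theorem limCompare_π (i : I) :
    limCompare fn F ≫ limit.π ((F ⋙ fn) ⋙ yoneda) i =
      fn.op.lan.map (limit.π (F ⋙ yoneda) i) ≫ eRep fn (F.obj i) :=
  limit.lift_π _ _

variable (K)

include K in
theorem isIso_sh_limCompare : IsIso ((presheafToSheaf J (Type u)).map (limCompare fn F))
    ∨ ¬ PreservesFiniteLimits (fn.sheafPullback (Type u) K J) := by
  refine or_iff_not_imp_right.2 fun h => ?_
  haveI := not_not.1 h
  haveI : PreservesFiniteLimits (presheafToSheaf K (Type u) ⋙ fn.sheafPullback (Type u) K J) :=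
    comp_preservesFiniteLimits _ _
  haveI : PreservesFiniteLimits (lanSh J fn) :=
    preservesFiniteLimits_of_natIso (lanShIso J K fn).symm
  let sh := presheafToSheaf J (Type u)
  let e : (F ⋙ yoneda) ⋙ lanSh J fn ≅ ((F ⋙ fn) ⋙ yoneda) ⋙ sh :=
    Functor.isoWhiskerRight (diagIso fn F) sh
  let h₁ := isLimitOfPreserves (lanSh J fn) (limit.isLimit (F ⋙ yoneda))
  let h₂ := isLimitOfPreserves sh (limit.isLimit ((F ⋙ fn) ⋙ yoneda))
  have : sh.map (limCompare fn F) = (IsLimit.conePointsIsoOfNatIso h₁ h₂ e).hom := by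
    refine h₂.hom_ext fun i => ?_
    rw [IsLimit.conePointsIsoOfNatIso_hom_comp]
    show sh.map (limCompare fn F) ≫ sh.map (limit.π _ i) =
      sh.map (fn.op.lan.map (limit.π (F ⋙ yoneda) i)) ≫ sh.map (eRep fn (F.obj i))
    rw [← sh.map_comp, ← sh.map_comp, limCompare_π]
  rw [this]
  infer_instance

variable [PreservesFiniteLimits (fn.sheafPullback (Type u) K J)]

include K in
/-- Cones over the image of a finite diagram locally come from cones over the diagram. -/
theorem exists_cover_cone {U : C} (c : ∀ i, U ⟶ fn.obj (F.obj i))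
    (hc : ∀ {i j} (a : i ⟶ j), c i ≫ fn.map (F.map a) = c j) :
    ∃ S ∈ J U, ∀ ⦃W : C⦄ (g : W ⟶ U), S g → ∃ (V : D) (ψ : W ⟶ fn.obj V) (d : ∀ i, V ⟶ F.obj i),
      (∀ {i j} (a : i ⟶ j), d i ≫ F.map a = d j) ∧ ∀ i, g ≫ c i = ψ ≫ fn.map (d i) := by
  let cc : Cone ((F ⋙ fn) ⋙ yoneda) :=
    { pt := yoneda.obj U
      π :=
        { app := fun i => yoneda.map (c i)
          naturality := fun i j a => (Category.id_comp _).trans
            (((congrArg yoneda.map (hc a)).symm.trans (yoneda.map_comp _ _))) } }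
  let α := limCompare fn F
  let β := (fn.op.lanAdjunction (Type u)).homEquiv _ _ α
  haveI : IsIso ((presheafToSheaf J (Type u)).map (lanDesc fn β)) := by
    rw [show lanDesc fn β = α from Equiv.symm_apply_apply _ _]
    exact (isIso_sh_limCompare J K fn F).resolve_right (not_not.2 inferInstance)
  refine ⟨_, factorSieve_mem J fn β (yonedaEquiv (limit.lift _ cc)), fun W g hg => ?_⟩
  obtain ⟨V, ψ, p, h⟩ := hg
  refine ⟨V, ψ, fun i => (limit.π (F ⋙ yoneda) i).app (op V) p, fun {i j} a => ?_, fun i => ?_⟩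
  · exact congr(($(limit.w (F ⋙ yoneda) a)).app (op V) p)
  · have h' := congrArg ((limit.π ((F ⋙ fn) ⋙ yoneda) i).app (op W)) h
    rw [NatTrans.naturality_apply, NatTrans.naturality_apply] at h'
    have hl : (limit.π ((F ⋙ fn) ⋙ yoneda) i).app (op U) (yonedaEquiv (limit.lift _ cc)) = c i := by
      refine (congr(($(limit.lift_π cc i)).app (op U) (𝟙 U))).trans ?_
      exact Category.id_comp (c i)
    have hb : β ≫ Functor.whiskerLeft fn.op (limit.π ((F ⋙ fn) ⋙ yoneda) i) =
        limit.π (F ⋙ yoneda) i ≫ δ fn (F.obj i) := by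
      apply ((fn.op.lanAdjunction (Type u)).homEquiv _ _).symm.injective
      show lanDesc fn _ = lanDesc fn _
      rw [← lanDesc_comp, ← map_lanDesc]
      rw [show lanDesc fn β = α from Equiv.symm_apply_apply _ _]
      exact limCompare_π fn F i
    rw [hl, show (limit.π ((F ⋙ fn) ⋙ yoneda) i).app (op (fn.obj V)) (β.app (op V) p) =
      fn.map ((limit.π (F ⋙ yoneda) i).app (op V) p) from congr(($hb).app (op V) p)] at h'
    exact h'

end Diagram

variable (K) [PreservesFiniteLimits (fn.sheafPullback (Type u) K J)]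

include K in
/-- Locally every object maps to the image. -/
theorem exists_cover_obj (U : C) :
    ∃ S ∈ J U, ∀ ⦃W : C⦄ (g : W ⟶ U), S g → ∃ V : D, Nonempty (W ⟶ fn.obj V) := by
  obtain ⟨S, hS, h⟩ := exists_cover_cone J K fn (Functor.empty D) (U := U) (fun i => i.as.elim)
    (fun {i} => i.as.elim)
  exact ⟨S, hS, fun W g hg => let ⟨V, ψ, _⟩ := h g hg; ⟨V, ⟨ψ⟩⟩⟩

include K in
/-- Locally two maps to the image factor through one. -/
theorem exists_cover_pair {U : C} {V₁ V₂ : D} (φ₁ : U ⟶ fn.obj V₁) (φ₂ : U ⟶ fn.obj V₂) :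
    ∃ S ∈ J U, ∀ ⦃W : C⦄ (g : W ⟶ U), S g → ∃ (V : D) (ψ : W ⟶ fn.obj V) (a₁ : V ⟶ V₁) (a₂ : V ⟶ V₂),
      g ≫ φ₁ = ψ ≫ fn.map a₁ ∧ g ≫ φ₂ = ψ ≫ fn.map a₂ := by
  let F := pair V₁ V₂
  obtain ⟨S, hS, h⟩ := exists_cover_cone J K fn F (U := U)
    (fun | ⟨.left⟩ => φ₁ | ⟨.right⟩ => φ₂)
    (fun {i j} a => by
      obtain rfl := Discrete.ext (Discrete.eq_of_hom a)
      rw [show a = 𝟙 i from Subsingleton.elim _ _, F.map_id, fn.map_id, Category.comp_id])
  refine ⟨S, hS, fun W g hg => ?_⟩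
  obtain ⟨V, ψ, d, -, hd⟩ := h g hg
  exact ⟨V, ψ, d ⟨.left⟩, d ⟨.right⟩, hd ⟨.left⟩, hd ⟨.right⟩⟩

include K in
/-- Locally two maps agreeing on the image agree. -/
theorem exists_cover_eq {U : C} {V V' : D} (φ : U ⟶ fn.obj V) (a b : V ⟶ V')
    (h : φ ≫ fn.map a = φ ≫ fn.map b) :
    ∃ S ∈ J U, ∀ ⦃W : C⦄ (g : W ⟶ U), S g → ∃ (V'' : D) (ψ : W ⟶ fn.obj V'') (e : V'' ⟶ V),
      g ≫ φ = ψ ≫ fn.map e ∧ e ≫ a = e ≫ b := by
  obtain ⟨S, hS, h'⟩ := exists_cover_cone J K fn (parallelPair a b) (U := U)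
    (fun | .zero => φ | .one => φ ≫ fn.map a)
    (fun {i j} m => by
      change WalkingParallelPairHom i j at m
      cases m with
      | left => rfl
      | right => exact h.symm
      | id =>
        exact (congrArg _ ((congrArg fn.map ((parallelPair a b).map_id i)).trans (fn.map_id _))).trans
          (Category.comp_id _))
  refine ⟨S, hS, fun W g hg => ?_⟩
  obtain ⟨V'', ψ, d, hd', hd⟩ := h' g hg
  exact ⟨V'', ψ, d .zero, hd .zero,
    (hd' WalkingParallelPairHom.left).trans (hd' WalkingParallelPairHom.right).symm⟩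

include K in
/-- The image of a covering sieve generates a covering sieve. -/
theorem functorPushforward_mem {V : D} (S : Sieve V) (hS : S ∈ K V) :
    S.functorPushforward fn ∈ J (fn.obj V) := by
  haveI : IsIso ((presheafToSheaf K (Type u)).map S.functorInclusion) :=
    (K.W_iff _).1 ((K.W_iff_isLocallyBijective _).2 ⟨⟨fun {X} x y h => by
        rw [show x = y from Subtype.ext h]
        exact K.superset_covering (fun W k _ => rfl) (K.top_mem _)⟩,
      ⟨fun {U} (g : U ⟶ V) => K.superset_covering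
        (fun W k (hk : S (k ≫ g)) => ⟨⟨k ≫ g, hk⟩, rfl⟩) (K.pullback_stable g hS)⟩⟩)
  haveI : IsIso ((lanSh J fn).map S.functorInclusion) :=
    (NatIso.isIso_map_iff (lanShIso J K fn) _).2
      (inferInstanceAs (IsIso ((fn.sheafPullback (Type u) K J).map
        ((presheafToSheaf K (Type u)).map S.functorInclusion))))
  haveI : IsIso ((presheafToSheaf J (Type u)).map (lanDesc fn (S.functorInclusion ≫ δ fn V))) := by
    rw [← map_lanDesc, Functor.map_comp]
    haveI := isIso_eRep fn V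
    exact IsIso.comp_isIso' (inferInstanceAs (IsIso ((lanSh J fn).map S.functorInclusion))) inferInstance
  refine J.superset_covering (fun W g hg => ?_)
    (factorSieve_mem J fn (S.functorInclusion ≫ δ fn V) (U := fn.obj V) (𝟙 (fn.obj V)))
  obtain ⟨V', ψ, p, h⟩ := hg
  exact ⟨V', p.1, ψ, p.2, (Category.comp_id g).symm.trans h⟩

end Groth.Agent.PullFlat
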