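import Groth.Agent.PullFlat.Local
import Groth.Agent.SiteBase.FreeMod

/-!
# Inverse images of flat modules
-/

set_option autoImplicit false
set_option linter.style.haveILetI false
set_option linter.unusedSectionVars false

universe u v w

open CategoryTheory Limits Opposite

noncomputable section

namespace Groth.Agent.PullFlat

open Groth.Agent.ModTensor

section Sheaves

variable {C : Type u} [SmallCategory C] {J : GrothendieckTopology C} {O : Sheaf J CommRingCat.{u}}

/-- A section vanishing on a covering is zero. -/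
theorem eq_zero_of_loc (M : ModSite.Mod O) {U : C} (s : (pre O M).obj (op U))
    (h : Loc J U fun _ g => res (pre O M) g.op s = 0) : s = 0 := by
  obtain ⟨S, hS, h⟩ := h
  refine (((isSheaf_iff_isSheaf_of_type J _).1
    ((Presheaf.isSheaf_iff_isSheaf_forget J _ (CategoryTheory.forget AddCommGrpCat.{u})).1
      M.isSheaf)).isSeparated S hS).ext fun W g hg => ?_
  exact (h g hg).trans (map_zero (res (pre O M) g.op)).symm

/-- Sections lift locally along epimorphisms. -/
theorem loc_lift {M N : ModSite.Mod O} (q : M ⟶ N) [Epi q] {U : C} {ν : Type w} [Fintype ν]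
    (t : ν → (pre O N).obj (op U)) :
    Loc J U fun W g => ∃ t' : ν → (pre O M).obj (op W),
      ∀ i, lin ((preFunctor O).map q) (op W) (t' i) = res (pre O N) g.op (t i) := by
  haveI : Epi ((SheafOfModules.toSheaf (ModSite.ringSh O)).map q) := by
    haveI := Groth.Agent.SiteBase.preservesFiniteColimits_toSheaf (ModSite.ringSh O)
    haveI := preservesEpimorphisms_of_preservesColimitsOfShape (SheafOfModules.toSheaf (ModSite.ringSh O))
    exact Functor.map_epi _ q
  haveI : Sheaf.IsLocallySurjective ((SheafOfModules.toSheaf (ModSite.ringSh O)).map q) :=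
    (Sheaf.isLocallySurjective_iff_epi' AddCommGrpCat.{u} _).2 inferInstance
  have h : ∀ i, Loc J U fun W g => ∃ a : (pre O M).obj (op W),
      lin ((preFunctor O).map q) (op W) a = res (pre O N) g.op (t i) := fun i =>
    ⟨Presheaf.imageSieve ((SheafOfModules.toSheaf (ModSite.ringSh O)).map q).hom (t i),
      Presheaf.imageSieve_mem J ((SheafOfModules.toSheaf (ModSite.ringSh O)).map q).hom (U := op U) (t i),
      fun W g hg => ⟨hg.choose, hg.choose_spec⟩⟩
  refine Loc.bind (Loc.forall_fintype h) fun W g hg => ?_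
  choose a ha using hg
  refine Loc.of_forall fun W' k => ⟨fun i => res (pre O M) k.op (a i), fun i => ?_⟩
  rw [lin_res, ha, ← res_comp]
  rfl

/-- Sections killed by the map to the cokernel of a short exact sequence come from the kernel. -/
theorem exists_of_lin_eq_zero {S : ShortComplex (ModSite.Mod O)} (hS : S.ShortExact) {U : C}
    (s : (pre O S.X₂).obj (op U)) (h : lin ((preFunctor O).map S.g) (op U) s = 0) :
    ∃ t, lin ((preFunctor O).map S.f) (op U) t = s := by
  haveI := hS.mono_f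
  have h1 := hS.exact.map_of_mono_of_preservesKernel (SheafOfModules.forget (ModSite.ringSh O))
    inferInstance inferInstance
  exact (ShortComplex.moduleCat_exact_iff _).1
    (h1.map (PresheafOfModules.evaluation (ModSite.ringSh O).obj (op U))) s h

theorem injective_of_mono {M N : ModSite.Mod O} (q : M ⟶ N) [Mono q] (U : Cᵒᵖ) :
    Function.Injective (lin ((preFunctor O).map q) U) := by
  haveI : Mono ((preFunctor O).map q) :=
    inferInstanceAs (Mono ((SheafOfModules.forget (ModSite.ringSh O)).map q))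
  exact PresheafOfModules.injective_of_mono ((preFunctor O).map q) U

end Sheaves

variable {C D : Type u} [SmallCategory C] [SmallCategory D] {J : GrothendieckTopology C}
  {K : GrothendieckTopology D} {O_C : Sheaf J CommRingCat.{u}} {O_D : Sheaf K CommRingCat.{u}}
  (f : ModSite.RMor O_C O_D)

/-- Coverings pull back along maps to the image. -/
theorem loc_of_covering {W : C} {V : D} (ψ : W ⟶ f.fn.obj V) {S : Sieve V} (hS : S ∈ K V) :
    Loc J W fun W' g => ∃ (V' : D) (a : V' ⟶ V) (ψ' : W' ⟶ f.fn.obj V'),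
      g ≫ ψ = ψ' ≫ f.fn.map a ∧ S a := by
  refine ⟨_, J.pullback_stable ψ (functorPushforward_mem J K f.fn S hS), fun W' g hg => ?_⟩
  obtain ⟨V', a, ψ', ha, h⟩ := hg
  exact ⟨V', a, ψ', h, ha⟩

/-- A flat module trivializes finitely many relations on a covering. -/
theorem exists_cover_trivial {F : ModSite.Mod O_D} (hF : ModSite.IsFlat F) {V : D} {κ μ : Type}
    [Fintype κ] [Fintype μ] (x : κ → (pre O_D F).obj (op V)) (A : κ → μ → O_D.obj.obj (op V))
    (h : ∀ j, ∑ k, A k j • x k = 0) :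
    ∃ S ∈ K V, ∀ ⦃V' : D⦄ (a : V' ⟶ V), S a →
      ∃ (ν : Type u) (_ : Fintype ν) (t : ν → (pre O_D F).obj (op V')) (B : κ → ν → O_D.obj.obj (op V')),
        (∀ k, res (pre O_D F) a.op (x k) = ∑ i, B k i • t i) ∧
          ∀ j i, ∑ k, B k i * ores O_D a.op (A k j) = 0 := by
  refine ⟨_, goodSieve_mem_of_single O_D F (goodSieve_mem_of_isFlat O_D F hF)
    (fun (j : ULift.{u} μ) (k : ULift.{u} κ) => A k.down j.down) (fun k => x k.down)
    (fun j => (Equiv.ulift.sum_comp fun k => A k j.down • x k).trans (h j.down)), fun V' a ha => ?_⟩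
  obtain ⟨ν, _, t, B, ht, hB⟩ := ha
  exact ⟨ν, inferInstance, t, fun k i => B ⟨k⟩ i, fun k => ht ⟨k⟩,
    fun j i => (Equiv.ulift.symm.sum_comp fun k => B k i * ores O_D a.op (A k.down j)).trans (hB ⟨j⟩ i)⟩

theorem shRes_change {V V' : D} {W W' : C} (k : W' ⟶ W) (ψ : W ⟶ f.fn.obj V)
    (ψ' : W' ⟶ f.fn.obj V') (a : V' ⟶ V) (h : k ≫ ψ = ψ' ≫ f.fn.map a) (r : O_D.obj.obj (op V)) :
    shRes f ψ' (ores O_D a.op r) = ores O_C k.op (shRes f ψ r) := by
  rw [shRes_ores, ← h, shRes_comp]

/-- The inverse image of a flat module is flat. -/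
theorem isFlat_pull (M : ModSite.Mod O_D) (hM : ModSite.IsFlat M) :
    ModSite.IsFlat (f.pull.obj M) := by
  classical
  refine isFlat_of_single O_C _ fun U ι _ c s hs => ?_
  suffices h : Loc J U fun W g => (goodSieve O_C (f.pull.obj M) (fun _ : PUnit.{u + 1} => c) s).arrows g by
    obtain ⟨S, hS, h⟩ := h
    exact J.superset_covering (fun W g hg => h g hg) hS
  refine Loc.bind (loc_exists_gen f M s) fun W g hg => ?_
  obtain ⟨V, ψ, n, x, E, hE⟩ := hg
  have hrel : ∑ q, (∑ i, ores O_C g.op (c i) * E i q) • gen f M V ψ (x q) = 0 := by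
    simp only [Finset.sum_smul, mul_smul]
    rw [Finset.sum_comm]
    simp only [← Finset.smul_sum, ← hE, ← res_smul, ← map_sum, hs, map_zero]
  refine Loc.bind (loc_of_sum_gen_eq_zero f M ψ x _ hrel) fun W₁ g₁ hg₁ => ?_
  obtain ⟨V₁, a₁, ψ₁, h₁, l, m, t, A, A', y, hy, hy', hA⟩ := hg₁
  obtain ⟨S, hS, hS'⟩ := exists_cover_trivial hM
    (Sum.elim (fun q => res (pre O_D M) a₁.op (x q)) t : Fin n ⊕ Fin l → _)
    (Sum.elim A A' : Fin n ⊕ Fin l → Fin m → _) (fun j => by
      rw [Fintype.sum_sum_type]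
      exact hA j)
  refine Loc.bind (loc_of_covering f ψ₁ hS) fun W₂ g₂ hg₂ => ?_
  obtain ⟨V₂, a₂, ψ₂, h₂, ha₂⟩ := hg₂
  obtain ⟨ν, _, t₂, B, hB, hB'⟩ := hS' a₂ ha₂
  refine Loc.of_forall fun W₃ g₃ => ?_
  have h₂' : (g₃ ≫ g₂) ≫ ψ₁ = (g₃ ≫ ψ₂) ≫ f.fn.map a₂ := by
    rw [Category.assoc, h₂, Category.assoc]
  let χ := g₃ ≫ g₂ ≫ g₁
  refine ⟨ν, inferInstance, fun i => gen f M V₂ (g₃ ≫ ψ₂) (t₂ i),
    fun j i => ∑ q, ores O_C χ.op (E j q) * shRes f (g₃ ≫ ψ₂) (B (Sum.inl q) i), fun j => ?_,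
    fun _ i => ?_⟩
  · rw [show ((g₃ ≫ g₂) ≫ g₁) ≫ g = χ ≫ g by simp [χ]] at *
    rw [op_comp, res_comp, hE, map_sum]
    simp only [Finset.sum_smul, mul_smul]
    rw [Finset.sum_comm]
    refine Finset.sum_congr rfl fun q _ => ?_
    rw [← Finset.smul_sum, res_smul, res_gen]
    refine congrArg _ ?_
    simp only [← gen_smul, ← gen_sum, ← hB]
    show _ = gen f M V₂ _ (res (pre O_D M) a₂.op (res (pre O_D M) a₁.op (x q)))
    rw [gen_trans, ← h₂', gen_trans]
    refine congrArg (fun p => gen f M V p (x q)) ?_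
    rw [Category.assoc (g₃ ≫ g₂) ψ₁, ← h₁]
    simp [χ]
  · have key : ∑ q, ores O_C (g₃ ≫ g₂).op (ores O_C g₁.op (∑ j, ores O_C g.op (c j) * E j q)) *
        shRes f (g₃ ≫ ψ₂) (B (Sum.inl q) i) = 0 := by
      have hq : ∀ q, ores O_C (g₃ ≫ g₂).op (ores O_C g₁.op (∑ j, ores O_C g.op (c j) * E j q)) =
          ∑ p, shRes f (g₃ ≫ ψ₂) (ores O_D a₂.op (A q p)) * ores O_C (g₃ ≫ g₂).op (y p) := by
        intro q
        refine (congrArg (ores O_C (g₃ ≫ g₂).op) (hy q)).trans ?_
        rw [map_sum]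
        refine Finset.sum_congr rfl fun p _ => ?_
        rw [map_mul, shRes_change f (g₃ ≫ g₂) ψ₁ (g₃ ≫ ψ₂) a₂ h₂']
      have hr : ∀ r, ∑ p, shRes f (g₃ ≫ ψ₂) (ores O_D a₂.op (A' r p)) * ores O_C (g₃ ≫ g₂).op (y p) = 0 := by
        intro r
        rw [← map_zero (ores O_C (g₃ ≫ g₂).op), ← hy' r, map_sum]
        refine Finset.sum_congr rfl fun p _ => ?_
        rw [map_mul, shRes_change f (g₃ ≫ g₂) ψ₁ (g₃ ≫ ψ₂) a₂ h₂']
      calc ∑ q, ores O_C (g₃ ≫ g₂).op (ores O_C g₁.op (∑ j, ores O_C g.op (c j) * E j q)) *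
            shRes f (g₃ ≫ ψ₂) (B (Sum.inl q) i)
          = ∑ z : Fin n ⊕ Fin l, (∑ p, shRes f (g₃ ≫ ψ₂) (ores O_D a₂.op (Sum.elim A A' z p)) *
              ores O_C (g₃ ≫ g₂).op (y p)) * shRes f (g₃ ≫ ψ₂) (B z i) := by
            rw [Fintype.sum_sum_type]
            simp only [Sum.elim_inl, Sum.elim_inr, hq, hr, zero_mul, Finset.sum_const_zero, add_zero]
        _ = ∑ p, shRes f (g₃ ≫ ψ₂) (∑ z, B z i * ores O_D a₂.op (Sum.elim A A' z p)) *
              ores O_C (g₃ ≫ g₂).op (y p) := by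
            simp only [Finset.sum_mul, map_sum]
            rw [Finset.sum_comm]
            refine Finset.sum_congr rfl fun p _ => Finset.sum_congr rfl fun z _ => ?_
            rw [map_mul]
            ring
        _ = 0 := by simp [hB']
    refine Eq.trans ?_ key
    simp only [map_sum, map_mul, Finset.sum_mul]
    rw [Finset.sum_comm]
    refine Finset.sum_congr rfl fun j _ => Finset.sum_congr rfl fun q _ => ?_
    simp only [χ, op_comp, ores_comp, Category.assoc]
    ring

theorem lin_pull_gen {F G : ModSite.Mod O_D} (q : F ⟶ G) {W : C} (V : D) (ψ : W ⟶ f.fn.obj V)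
    (x : (pre O_D F).obj (op V)) :
    lin ((preFunctor O_C).map (f.pull.map q)) (op W) (gen f F V ψ x) =
      gen f G V ψ (lin ((preFunctor O_D).map q) (op V) x) :=
  (lin_res ((preFunctor O_C).map (f.pull.map q)) ψ.op _).trans
    (congrArg (res (pre O_C (f.pull.obj G)) ψ.op)
      (congr(($(f.adj.unit.naturality q)).val.app (op V) x)).symm)

/-- The inverse image of an injection with flat cokernel is injective. -/
theorem mono_pull (S : ShortComplex (ModSite.Mod O_D)) (hS : S.ShortExact)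
    (hH : ModSite.IsFlat S.X₃) : Mono (f.pull.map S.f) := by
  classical
  haveI := hS.mono_f
  haveI := hS.epi_g
  suffices h : ∀ (U : C) (s : (pre O_C (f.pull.obj S.X₁)).obj (op U)),
      lin ((preFunctor O_C).map (f.pull.map S.f)) (op U) s = 0 → s = 0 by
    haveI : Mono ((SheafOfModules.forget (ModSite.ringSh O_C)).map (f.pull.map S.f)) :=
      PresheafOfModules.mono_of_injective fun {X} a b hab => by
        obtain ⟨U⟩ := X
        exact sub_eq_zero.1 (h U (a - b)
          ((map_sub (lin ((preFunctor O_C).map (f.pull.map S.f)) (op U)) a b).trans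
            (sub_eq_zero.2 hab)))
    exact (SheafOfModules.forget (ModSite.ringSh O_C)).mono_of_mono_map inferInstance
  intro U s hs
  refine eq_zero_of_loc _ s ?_
  refine Loc.bind (loc_exists_gen f S.X₁ (fun _ : PUnit.{1} => s)) fun W g hg => ?_
  obtain ⟨V, ψ, n, x, E, hE⟩ := hg
  let gx : Fin n → (pre O_D S.X₂).obj (op V) := fun q => lin ((preFunctor O_D).map S.f) (op V) (x q)
  have hrel : ∑ q, E PUnit.unit q • gen f S.X₂ V ψ (gx q) = 0 := by
    have h1 := congrArg (lin ((preFunctor O_C).map (f.pull.map S.f)) (op W)) (hE PUnit.unit)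
    rw [lin_res, hs, map_zero, map_sum] at h1
    refine Eq.trans ?_ h1.symm
    simp only [map_smul, lin_pull_gen, gx]
  refine Loc.bind (loc_of_sum_gen_eq_zero f S.X₂ ψ gx _ hrel) fun W₁ g₁ hg₁ => ?_
  obtain ⟨V₁, a₁, ψ₁, h₁, l, m, t, A, A', y, hy, hy', hA⟩ := hg₁
  let π := lin ((preFunctor O_D).map S.g) (op V₁)
  have hπ : ∀ q, π (res (pre O_D S.X₂) a₁.op (gx q)) = 0 := fun q => by
    show lin ((preFunctor O_D).map S.g) (op V₁) _ = 0
    rw [lin_res]
    refine (congrArg (res (pre O_D S.X₃) a₁.op) ?_).trans (map_zero (res (pre O_D S.X₃) a₁.op))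
    exact congr(($(S.zero)).val.app (op V) (x q))
  obtain ⟨T, hT, hT'⟩ := exists_cover_trivial hH (fun r : Fin l => π (t r)) A' (fun j => by
    have h1 := congrArg π (hA j)
    simpa [map_sum, map_smul, hπ] using h1)
  refine Loc.bind (loc_of_covering f ψ₁ hT) fun W₂ g₂ hg₂ => ?_
  obtain ⟨V₂, a₂, ψ₂, h₂, ha₂⟩ := hg₂
  obtain ⟨ν, _, t₂, B, hB, hB'⟩ := hT' a₂ ha₂
  obtain ⟨R, hR, hR'⟩ := loc_lift S.g t₂
  refine Loc.bind (loc_of_covering f ψ₂ hR) fun W₃ g₃ hg₃ => ?_
  obtain ⟨V₃, a₃, ψ₃, h₃, ha₃⟩ := hg₃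
  obtain ⟨t₃, ht₃⟩ := hR' a₃ ha₃
  refine Loc.of_forall fun W₄ g₄ => ?_
  let a := a₃ ≫ a₂
  let φ := g₄ ≫ ψ₃
  let χ := g₄ ≫ g₃ ≫ g₂
  have hφ : χ ≫ ψ₁ = φ ≫ f.fn.map a := by
    simp only [χ, φ, a, Category.assoc, f.fn.map_comp, h₂, reassoc_of% h₃]
  let B' : Fin l → ν → O_D.obj.obj (op V₃) := fun r i => ores O_D a₃.op (B r i)
  have hw : ∀ r, ∃ w, lin ((preFunctor O_D).map S.f) (op V₃) w =
      res (pre O_D S.X₂) a.op (t r) - ∑ i, B' r i • t₃ i := fun r => by
    refine exists_of_lin_eq_zero hS _ ?_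
    rw [map_sub, map_sum, lin_res, sub_eq_zero, op_comp, res_comp, hB, map_sum]
    refine Finset.sum_congr rfl fun i _ => ?_
    rw [res_smul, map_smul, ht₃]
  choose w hw using hw
  have hw0 : ∀ j, ∑ q, ores O_D a.op (A q j) • res (pre O_D S.X₁) (a ≫ a₁).op (x q) +
      ∑ r, ores O_D a.op (A' r j) • w r = 0 := fun j => by
    apply injective_of_mono S.f (op V₃)
    rw [map_zero, map_add, map_sum, map_sum]
    simp only [map_smul, hw, smul_sub, Finset.smul_sum, smul_smul, Finset.sum_sub_distrib, lin_res,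
      op_comp, res_comp]
    rw [Finset.sum_comm (s := (Finset.univ : Finset (Fin l))) (t := (Finset.univ : Finset ν))]
    simp only [← Finset.sum_smul]
    have h2 : ∀ i, ∑ r, ores O_D a.op (A' r j) * B' r i = 0 := fun i => by
      have h3 := congrArg (ores O_D a₃.op) (hB' j i)
      rw [map_zero, map_sum] at h3
      refine Eq.trans ?_ h3
      refine Finset.sum_congr rfl fun r _ => ?_
      rw [map_mul, mul_comm]
      simp only [B', a, op_comp, ores_comp]
    simp only [h2, zero_smul, Finset.sum_const_zero, sub_zero]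
    have h4 := congrArg (res (pre O_D S.X₂) a.op) (hA j)
    rw [map_zero, map_add, map_sum, map_sum] at h4
    simp only [res_smul] at h4
    exact h4
  show res (pre O_C (f.pull.obj S.X₁)) ((((g₄ ≫ g₃) ≫ g₂) ≫ g₁) ≫ g).op s = 0
  rw [show (((g₄ ≫ g₃) ≫ g₂) ≫ g₁) ≫ g = (χ ≫ g₁) ≫ g by simp [χ], op_comp, res_comp, hE PUnit.unit,
    map_sum]
  calc ∑ q, res (pre O_C (f.pull.obj S.X₁)) (χ ≫ g₁).op (E PUnit.unit q • gen f S.X₁ V ψ (x q))
      = ∑ q, ∑ j, ores O_C χ.op (y j) •
          gen f S.X₁ V₃ φ (ores O_D a.op (A q j) • res (pre O_D S.X₁) (a ≫ a₁).op (x q)) := by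
        refine Finset.sum_congr rfl fun q _ => ?_
        rw [res_smul, res_gen]
        simp only [gen_smul, smul_smul, ← Finset.sum_smul, gen_trans]
        refine congrArg₂ (· • ·) ?_ (congrArg (fun p => gen f S.X₁ V p (x q)) ?_)
        · rw [op_comp, ores_comp]
          refine (congrArg (ores O_C χ.op) (hy q)).trans ?_
          rw [map_sum]
          refine Finset.sum_congr rfl fun j _ => ?_
          rw [map_mul, mul_comm, shRes_change f χ ψ₁ φ a hφ]
        · rw [f.fn.map_comp, ← Category.assoc φ, ← hφ, Category.assoc χ ψ₁, ← h₁]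
          simp [χ]
    _ = ∑ j, ores O_C χ.op (y j) •
          gen f S.X₁ V₃ φ (∑ q, ores O_D a.op (A q j) • res (pre O_D S.X₁) (a ≫ a₁).op (x q)) := by
        rw [Finset.sum_comm]
        simp only [gen_sum, Finset.smul_sum]
    _ = ∑ j, ores O_C χ.op (y j) • gen f S.X₁ V₃ φ (∑ r, ores O_D a.op (A' r j) • (- w r)) := by
        refine Finset.sum_congr rfl fun j _ => ?_
        rw [eq_neg_of_add_eq_zero_left (hw0 j), ← Finset.sum_neg_distrib]
        simp only [smul_neg]
    _ = 0 := by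
        simp only [gen_sum, gen_smul, Finset.smul_sum, smul_smul]
        rw [Finset.sum_comm]
        refine Finset.sum_eq_zero fun r _ => ?_
        rw [← Finset.sum_smul]
        refine (congrArg (· • _) ?_).trans (zero_smul _ _)
        have h5 := congrArg (ores O_C χ.op) (hy' r)
        rw [map_zero, map_sum] at h5
        refine Eq.trans ?_ h5
        refine Finset.sum_congr rfl fun j _ => ?_
        rw [map_mul, mul_comm, shRes_change f χ ψ₁ φ a hφ]

/-- The inverse image of a short exact sequence with flat cokernel is short exact. -/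
theorem shortExact_pull (S : ShortComplex (ModSite.Mod O_D)) (hS : S.ShortExact)
    (hH : ModSite.IsFlat S.X₃) : (S.map f.pull).ShortExact := by
  haveI := hS.epi_g
  haveI := hS.mono_f
  haveI := mono_pull f S hS hH
  haveI : PreservesFiniteColimits f.pull := by
    haveI := f.adj.leftAdjoint_preservesColimits
    infer_instance
  exact { exact := hS.exact.map_of_epi_of_preservesCokernel f.pull hS.epi_g inferInstance
          mono_f := inferInstanceAs (Mono (f.pull.map S.f))
          epi_g := inferInstanceAs (Epi (f.pull.map S.g)) }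

end Groth.Agent.PullFlat
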