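import Groth.Agent.PullFlat.Flat
import Groth.Agent.KFlat.MapTot
import Groth.Agent.DCohLib.FlatCycles
import Groth.Prelude.Def_SiteCmp

/-!
# Inverse images of K-flat complexes with flat terms
-/

set_option linter.style.haveILetI false
set_option linter.unusedSectionVars false

universe u

open CategoryTheory Limits Opposite

noncomputable section

namespace Groth.Agent.PullFlat

open Groth.Agent.KFlat Groth.Agent.DCohLib

variable {C D : Type u} [SmallCategory C] [SmallCategory D] {J : GrothendieckTopology C}
  {K : GrothendieckTopology D} {O_C : Sheaf J CommRingCat.{u}} {O_D : Sheaf K CommRingCat.{u}}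
  (f : ModSite.RMor O_C O_D)

/-- Tensoring with an inverse image, as a bifunctor. -/
abbrev biPull : ModSite.Mod O_C ⥤ ModSite.Mod O_D ⥤ ModSite.Mod O_C :=
  ModSite.tensorBi O_C ⋙ (Functor.whiskeringLeft _ _ _).obj f.pull

instance additive_biPull : (biPull f).Additive := inferInstance

instance additive_biPull_obj (X : ModSite.Mod O_C) : ((biPull f).obj X).Additive :=
  inferInstanceAs (f.pull ⋙ (ModSite.tensorBi O_C).obj X).Additive

instance preservesColimitsOfShape_biPull {I : Type} [SmallCategory I] (X : ModSite.Mod O_C) :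
    PreservesColimitsOfShape I ((biPull f).obj X) := by
  haveI : PreservesColimitsOfSize.{u, u} f.pull := f.adj.leftAdjoint_preservesColimits
  haveI : PreservesColimitsOfSize.{0, 0} f.pull := preservesColimitsOfSize_shrink.{0, u, 0, u} _
  exact inferInstanceAs (PreservesColimitsOfShape I (f.pull ⋙ (ModSite.tensorBi O_C).obj X))

/-- Flat modules are good for tensoring with inverse images. -/
theorem flatClassPull : FlatClass (biPull f) (fun M : ModSite.Mod O_D => ModSite.IsFlat M) where
  good _ hM := fun S hS => goodObj_of_isFlat O_C (isFlat_pull f _ hM) S hS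
  iso e hM := (flatClassMod O_D).iso e hM
  zero hM := (flatClassMod O_D).zero hM
  biprod hM hM' := (flatClassMod O_D).biprod hM hM'
  seq K c hc h := (flatClassMod O_D).seq K c hc h
  cover X := (flatClassMod O_D).cover X

theorem isKFlat_pull_res (G : CochainComplex (ModSite.Mod O_D) ℤ) :
    ModSite.IsKFlat ((f.pull.mapHomologicalComplex (ComplexShape.up ℤ)).obj ((resF O_D).obj G)) := by
  refine (isKFlat_iff O_C _).2 fun L hL => ?_
  exact isKFlatFor_res (F := biPull f) (cov O_D) (covNat O_D) (flatClassPull f)
    (fun X => isFlat_cov O_D X) G L hL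

/-- The cycles, with zero differential, inside a complex. -/
def cyclesIncl {E : Type*} [Category E] [Abelian E] (X : CochainComplex E ℤ) :
    zeroDiff (fun n => X.cycles n) ⟶ X where
  f n := X.iCycles n
  comm' i j _ := (X.iCycles_d i j).trans zero_comp.symm

/-- The projection of a complex to the next cycles. -/
def toCyclesHom {E : Type*} [Category E] [Abelian E] (X : CochainComplex E ℤ) :
    X ⟶ zeroDiff (fun n => X.cycles (n + 1)) where
  f n := X.toCycles n (n + 1)
  comm' i j hij := by
    refine comp_zero.trans ?_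
    refine (cancel_mono (X.iCycles (j + 1))).1 ?_
    exact zero_comp.trans (((Category.assoc _ _ _).trans
      ((congrArg (X.d i j ≫ ·) (X.toCycles_i j (j + 1))).trans (X.d_comp_d i j (j + 1)))).symm)

/-- The two cycle complexes give a sequence. -/
def cyclesShortComplex {E : Type*} [Category E] [Abelian E] (X : CochainComplex E ℤ) :
    ShortComplex (CochainComplex E ℤ) :=
  ShortComplex.mk (cyclesIncl X) (toCyclesHom X) (by
    ext n
    exact (cyclesSeqZ X n (n + 1)).zero)

/-- The inverse image of an acyclic complex with flat cycles is K-flat. -/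
theorem isKFlat_pull_of_flat_cycles {X : CochainComplex (ModSite.Mod O_D) ℤ} (hX : X.Acyclic)
    (hZ : ∀ n, ModSite.IsFlat (X.cycles n)) :
    ModSite.IsKFlat ((f.pull.mapHomologicalComplex (ComplexShape.up ℤ)).obj X) := by
  let S := (cyclesShortComplex X).map (f.pull.mapHomologicalComplex (ComplexShape.up ℤ))
  have hS : S.ShortExact := HomologicalComplex.shortExact_of_degreewise_shortExact _ fun n =>
    shortExact_pull f _ (shortExact_cyclesSeqZ X hX n (n + 1) rfl) (hZ (n + 1))
  refine (twoOfThree_of_isFlat O_C S hS fun n => isFlat_pull f _ (hZ (n + 1))).2.1 ?_ ?_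
  · refine (isKFlat_iff O_C _).2 fun L hL => ?_
    exact isKFlatFor_zeroDiff (biPull f) _ (fun n => (flatClassPull f).good _ (hZ n)) L hL
  · refine (isKFlat_iff O_C _).2 fun L hL => ?_
    exact isKFlatFor_zeroDiff (biPull f) _ (fun n => (flatClassPull f).good _ (hZ (n + 1))) L hL

/-- The inverse image of a K-flat complex with flat terms is K-flat with flat terms. -/
theorem isKFlat_pull {L : CochainComplex (ModSite.Mod O_D) ℤ} (hL : ModSite.IsKFlat L)
    (hfl : ∀ n, ModSite.IsFlat (L.X n)) :
    ModSite.IsKFlat ((f.pull.mapHomologicalComplex (ComplexShape.up ℤ)).obj L) := by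
  let N := (resF O_D).obj L
  let c : N ⟶ L := (resFπ O_D).app L
  haveI : QuasiIso c := quasiIso_resFπ O_D L
  have hN : IsKFlatFor (ModSite.tensorBi O_D) N := isKFlatFor_resF O_D L
  have hcone : IsKFlatFor (ModSite.tensorBi O_D) (CochainComplex.mappingCone c) :=
    (twoOfThree_mappingCone (ModSite.tensorBi O_D) c).1 hN ((isKFlat_iff O_D L).1 hL)
  have hterm : ∀ n, ModSite.IsFlat ((CochainComplex.mappingCone c).X n) :=
    (flatClassMod O_D).cone c
      (res_X_flat (F := ModSite.tensorBi O_D) (cov O_D) (covNat O_D) (flatClassMod O_D)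
        (fun X => isFlat_cov O_D X) L) hfl
  have h1 := isKFlat_pull_of_flat_cycles f (acyclic_cone_of_quasiIso c)
    (fun n => isFlat_cycles_of_isKFlatFor O_D (acyclic_cone_of_quasiIso c) hcone hterm n)
  refine (twoOfThree_cone O_C ((f.pull.mapHomologicalComplex (ComplexShape.up ℤ)).map c)).2.1
    (isKFlat_pull_res f L) ?_
  exact (isKFlat_iff O_C _).2 (isKFlatFor_of_iso _
    (CochainComplex.mappingCone.mapHomologicalComplexIso c f.pull) ((isKFlat_iff O_C _).1 h1))

end Groth.Agent.PullFlat
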