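import Groth.Agent.PullFlat.CoverFlat
import Groth.Agent.ModTensor.Criterion

/-!
# An explicit model of the inverse image of a module
-/

set_option autoImplicit false
set_option linter.style.haveILetI false
set_option linter.unusedSectionVars false

universe u

open CategoryTheory Limits Opposite

noncomputable section

namespace Groth.Agent.PullFlat

open Groth.Agent.ModTensor

variable {C D : Type u} [SmallCategory C] [SmallCategory D] {J : GrothendieckTopology C}
  {K : GrothendieckTopology D} {O_C : Sheaf J CommRingCat.{u}} {O_D : Sheaf K CommRingCat.{u}}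
  (f : ModSite.RMor O_C O_D) (F : ModSite.Mod O_D)

/-- The structure map on sections, followed by restriction. -/
abbrev shRes {V : D} {W : C} (φ : W ⟶ f.fn.obj V) : O_D.obj.obj (op V) →+* O_C.obj.obj (op W) :=
  (ores O_C φ.op).comp (f.sharp.hom.app (op V)).hom

theorem shRes_comp {V : D} {W W' : C} (k : W' ⟶ W) (φ : W ⟶ f.fn.obj V) (r : O_D.obj.obj (op V)) :
    shRes f (k ≫ φ) r = ores O_C k.op (shRes f φ r) :=
  ores_comp O_C φ.op k.op _

theorem shRes_ores {V V' : D} {W : C} (φ : W ⟶ f.fn.obj V) (a : V ⟶ V') (r : O_D.obj.obj (op V')) :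
    shRes f φ (ores O_D a.op r) = shRes f (φ ≫ f.fn.map a) r := by
  rw [shRes_comp]
  exact congrArg (ores O_C φ.op) (congr(($(f.sharp.hom.naturality a.op)).hom r))

/-- Formal sections of the inverse image: a map to the image with a section. -/
abbrev Sym (W : C) : Type u := Σ V : D, (W ⟶ f.fn.obj V) × (pre O_D F).obj (op V)

/-- The presheaf of formal sections. -/
def symPre : Cᵒᵖ ⥤ Type u where
  obj W := Sym f F W.unop
  map h := ↾fun s => ⟨s.1, h.unop ≫ s.2.1, s.2.2⟩
  map_id W := by
    ext s <;> simp
  map_comp {X Y Z} h k := by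
    ext s <;> simp

/-- The relations between formal sections. -/
inductive Rel (W : C) : Type u
  | add (V : D) (φ : W ⟶ f.fn.obj V) (x y : (pre O_D F).obj (op V)) : Rel W
  | smul (V : D) (φ : W ⟶ f.fn.obj V) (r : O_D.obj.obj (op V)) (x : (pre O_D F).obj (op V)) : Rel W
  | trans (V V' : D) (φ : W ⟶ f.fn.obj V) (a : V ⟶ V') (x : (pre O_D F).obj (op V')) : Rel W

variable {f F}

/-- Pulling back a relation. -/
def Rel.pull {W W' : C} (k : W' ⟶ W) : Rel f F W → Rel f F W'
  | .add V φ x y => .add V (k ≫ φ) x y
  | .smul V φ r x => .smul V (k ≫ φ) r x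
  | .trans V V' φ a x => .trans V V' (k ≫ φ) a x

variable (f F)

/-- The presheaf of relations. -/
def relPre : Cᵒᵖ ⥤ Type u where
  obj W := Rel f F W.unop
  map h := ↾fun r => r.pull h.unop
  map_id W := by
    ext r
    cases r <;> simp [Rel.pull]
  map_comp h k := by
    ext r
    cases r <;> simp [Rel.pull]

/-- A formal section. -/
abbrev sym {W : C} (V : D) (φ : W ⟶ f.fn.obj V) (x : (pre O_D F).obj (op V)) :
    Sym f F W →₀ O_C.obj.obj (op W) :=
  Finsupp.single ⟨V, φ, x⟩ 1

/-- The value of a relation. -/
def relVal {W : C} : Rel f F W → (Sym f F W →₀ O_C.obj.obj (op W))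
  | .add V φ x y => sym f F V φ (x + y) - sym f F V φ x - sym f F V φ y
  | .smul V φ r x => sym f F V φ (r • x) - Finsupp.single ⟨V, φ, x⟩ (shRes f φ r)
  | .trans V V' φ a x => sym f F V' (φ ≫ f.fn.map a) x - sym f F V φ (res (pre O_D F) a.op x)

/-- The free presheaf on formal sections. -/
abbrev freeSym : PMod O_C.obj :=
  (PresheafOfModules.free (O_C.obj ⋙ forget₂ CommRingCat RingCat)).obj (symPre f F)

theorem res_freeSym_single {W W' : Cᵒᵖ} (h : W ⟶ W') (s : Sym f F W.unop) (c : O_C.obj.obj W) :
    res (freeSym f F) h (Finsupp.single s c : Sym f F W.unop →₀ O_C.obj.obj W) =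
      (Finsupp.single (⟨s.1, h.unop ≫ s.2.1, s.2.2⟩ : Sym f F W'.unop) (ores O_C h c) :
        Sym f F W'.unop →₀ O_C.obj.obj W') := by
  rw [← Finsupp.smul_single_one s c]
  refine (res_smul (freeSym f F) h c (ModuleCat.freeMk s)).trans ?_
  rw [show res (freeSym f F) h (ModuleCat.freeMk s) =
    ModuleCat.freeMk ((⟨s.1, h.unop ≫ s.2.1, s.2.2⟩ : Sym f F W'.unop)) from
      ModuleCat.freeDesc_apply _ _]
  exact Finsupp.smul_single_one _ _

/-- The map from relations to formal sections. -/
def relMap : (PresheafOfModules.free (O_C.obj ⋙ forget₂ CommRingCat RingCat)).obj (relPre f F) ⟶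
    freeSym f F :=
  PresheafOfModules.freeObjDesc
    { app := fun W => ↾fun r => relVal f F r
      naturality := fun W W' h => by
        ext r
        show relVal f F (r.pull h.unop) = res (freeSym f F) h (relVal f F r)
        cases r with
        | add V φ x y =>
          refine Eq.trans ?_ ((map_sub (res (freeSym f F) h) _ _).trans
            (congrArg₂ (· - ·) (map_sub (res (freeSym f F) h) _ _) rfl)).symm
          rw [res_freeSym_single, res_freeSym_single, res_freeSym_single, map_one]
          rfl
        | smul V φ r x =>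
          refine Eq.trans ?_ (map_sub (res (freeSym f F) h) _ _).symm
          rw [res_freeSym_single, res_freeSym_single, map_one]
          show sym f F V (h.unop ≫ φ) (r • x) - Finsupp.single _ (shRes f (h.unop ≫ φ) r) = _
          rw [shRes_comp]
          rfl
        | trans V V' φ a x =>
          refine Eq.trans ?_ (map_sub (res (freeSym f F) h) _ _).symm
          rw [res_freeSym_single, res_freeSym_single, map_one]
          show sym f F V' ((h.unop ≫ φ) ≫ f.fn.map a) x - _ = _
          rw [Category.assoc]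
          rfl }

/-- The presheaf model of the inverse image. -/
def model : PMod O_C.obj := cokernel (relMap f F)

/-- The projection from formal sections. -/
def modelπ : freeSym f F ⟶ model f F := cokernel.π (relMap f F)

/-- The projection, on finitely supported functions. -/
abbrev πLin (W : C) : (Sym f F W →₀ O_C.obj.obj (op W)) →ₗ[O_C.obj.obj (op W)]
    ((model f F).obj (op W) : Type u) :=
  lin (modelπ f F) (op W)

/-- The map of relations, on finitely supported functions. -/
abbrev relLin (W : C) : (Rel f F W →₀ O_C.obj.obj (op W)) →ₗ[O_C.obj.obj (op W)]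
    (Sym f F W →₀ O_C.obj.obj (op W)) :=
  lin (relMap f F) (op W)

theorem relLin_single {W : C} (p : Rel f F W) : relLin f F W (Finsupp.single p 1) = relVal f F p :=
  ModuleCat.freeDesc_apply (R := O_C.obj.obj (op W)) _ p

theorem exists_rel_of_modelπ_eq_zero {W : C} (z : Sym f F W →₀ O_C.obj.obj (op W))
    (hz : πLin f F W z = 0) :
    ∃ r : Rel f F W →₀ O_C.obj.obj (op W),
      r.sum (fun p c => c • relVal f F p) = z := by
  let S := ShortComplex.mk (relMap f F) (modelπ f F) (cokernel.condition _)
  have hS : S.Exact := ShortComplex.exact_of_g_is_cokernel _ (cokernelIsCokernel _)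
  have hS' := hS.map (PresheafOfModules.evaluation (O_C.obj ⋙ forget₂ CommRingCat RingCat) (op W))
  obtain ⟨r, hr⟩ := (ShortComplex.moduleCat_exact_iff _).1 hS' z hz
  suffices h : ∀ r : Rel f F W →₀ O_C.obj.obj (op W), relLin f F W r = z →
      r.sum (fun p c => c • relVal f F p) = z from ⟨r, h r hr⟩
  intro r hr
  refine Eq.trans ?_ hr
  rw [← Finsupp.linearCombination_apply]
  exact LinearMap.congr_fun (Finsupp.lhom_ext' fun p => LinearMap.ext_ring
    (show Finsupp.linearCombination (O_C.obj.obj (op W)) (relVal f F) (Finsupp.single p 1) =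
      relLin f F W (Finsupp.single p 1) by
        rw [Finsupp.linearCombination_single, one_smul, relLin_single])) r

theorem surjective_modelπ (W : Cᵒᵖ) : Function.Surjective (lin (modelπ f F) W) := by
  haveI : Epi (modelπ f F) := inferInstanceAs (Epi (cokernel.π (relMap f F)))
  exact PresheafOfModules.surjective_of_epi (modelπ f F) W

theorem modelπ_relVal {W : C} (p : Rel f F W) : πLin f F W (relVal f F p) = 0 := by
  rw [← relLin_single]
  exact congr($(cokernel.condition (relMap f F)).app (op W) (ModuleCat.freeMk p))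

/-- The section of the model given by a map to the image and a section. -/
def mk {W : C} (V : D) (φ : W ⟶ f.fn.obj V) (x : (pre O_D F).obj (op V)) :
    (model f F).obj (op W) :=
  πLin f F W (sym f F V φ x)

theorem res_mk {W W' : C} (k : W' ⟶ W) (V : D) (φ : W ⟶ f.fn.obj V) (x : (pre O_D F).obj (op V)) :
    res (model f F) k.op (mk f F V φ x) = mk f F V (k ≫ φ) x := by
  refine (lin_res (modelπ f F) k.op _).symm.trans ?_
  refine congrArg (lin (modelπ f F) (op W')) ?_
  refine (res_freeSym_single f F k.op _ _).trans ?_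
  rw [map_one]
  rfl

theorem mk_add {W : C} (V : D) (φ : W ⟶ f.fn.obj V) (x y : (pre O_D F).obj (op V)) :
    mk f F V φ (x + y) = mk f F V φ x + mk f F V φ y := by
  have h := modelπ_relVal f F (.add V φ x y)
  simp only [relVal, map_sub, sub_sub, sub_eq_zero] at h
  exact h.trans (map_add (πLin f F W) _ _) |>.trans rfl

theorem mk_smul {W : C} (V : D) (φ : W ⟶ f.fn.obj V) (r : O_D.obj.obj (op V))
    (x : (pre O_D F).obj (op V)) :
    mk f F V φ (r • x) = shRes f φ r • mk f F V φ x := by
  have h := modelπ_relVal f F (.smul V φ r x)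
  simp only [relVal, map_sub, sub_eq_zero] at h
  refine h.trans ?_
  rw [← Finsupp.smul_single_one, map_smul]
  rfl

theorem mk_trans {W : C} {V V' : D} (φ : W ⟶ f.fn.obj V) (a : V ⟶ V') (x : (pre O_D F).obj (op V')) :
    mk f F V φ (res (pre O_D F) a.op x) = mk f F V' (φ ≫ f.fn.map a) x := by
  have h := modelπ_relVal f F (.trans V V' φ a x)
  simp only [relVal, map_sub, sub_eq_zero] at h
  exact h.symm

/-- The unit of the inverse image on sections. -/
abbrev unitSec {V : D} (x : (pre O_D F).obj (op V)) :
    (pre O_C (f.pull.obj F)).obj (op (f.fn.obj V)) :=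
  lin ((preFunctor O_D).map (f.adj.unit.app F)) (op V) x

/-- The section of the inverse image given by a map to the image and a section. -/
def gen {W : C} (V : D) (φ : W ⟶ f.fn.obj V) (x : (pre O_D F).obj (op V)) :
    (pre O_C (f.pull.obj F)).obj (op W) :=
  res (pre O_C (f.pull.obj F)) φ.op (unitSec f F x)

theorem res_gen {W W' : C} (k : W' ⟶ W) (V : D) (φ : W ⟶ f.fn.obj V) (x : (pre O_D F).obj (op V)) :
    res (pre O_C (f.pull.obj F)) k.op (gen f F V φ x) = gen f F V (k ≫ φ) x :=
  (res_comp (pre O_C (f.pull.obj F)) φ.op k.op _).symm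

theorem gen_add {W : C} (V : D) (φ : W ⟶ f.fn.obj V) (x y : (pre O_D F).obj (op V)) :
    gen f F V φ (x + y) = gen f F V φ x + gen f F V φ y :=
  (congrArg (res (pre O_C (f.pull.obj F)) φ.op)
    (map_add (lin ((preFunctor O_D).map (f.adj.unit.app F)) (op V)) x y)).trans
      (map_add (res (pre O_C (f.pull.obj F)) φ.op) _ _)

theorem gen_smul {W : C} (V : D) (φ : W ⟶ f.fn.obj V) (r : O_D.obj.obj (op V))
    (x : (pre O_D F).obj (op V)) :
    gen f F V φ (r • x) = shRes f φ r • gen f F V φ x :=
  (congrArg (res (pre O_C (f.pull.obj F)) φ.op)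
    (map_smul (lin ((preFunctor O_D).map (f.adj.unit.app F)) (op V)) r x)).trans
      (res_smul (pre O_C (f.pull.obj F)) φ.op _ _)

theorem gen_trans {W : C} {V V' : D} (φ : W ⟶ f.fn.obj V) (a : V ⟶ V') (x : (pre O_D F).obj (op V')) :
    gen f F V φ (res (pre O_D F) a.op x) = gen f F V' (φ ≫ f.fn.map a) x :=
  (congrArg (res (pre O_C (f.pull.obj F)) φ.op)
    (lin_res ((preFunctor O_D).map (f.adj.unit.app F)) a.op x)).trans
      (res_comp (pre O_C (f.pull.obj F)) (f.fn.map a).op φ.op _).symm

theorem gen_zero {W : C} (V : D) (φ : W ⟶ f.fn.obj V) : gen f F V φ 0 = 0 :=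
  (congrArg (res (pre O_C (f.pull.obj F)) φ.op) (map_zero _)).trans (map_zero _)

theorem gen_sum {W : C} (V : D) (φ : W ⟶ f.fn.obj V) {ι : Type*} (s : Finset ι)
    (x : ι → (pre O_D F).obj (op V)) :
    gen f F V φ (∑ i ∈ s, x i) = ∑ i ∈ s, gen f F V φ (x i) := by
  classical
  induction s using Finset.induction with
  | empty => simp [gen_zero]
  | insert i s hi ih => rw [Finset.sum_insert hi, Finset.sum_insert hi, gen_add, ih]

/-- The map from formal sections to the inverse image. -/
def freeToPull : freeSym f F ⟶ pre O_C (f.pull.obj F) :=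
  PresheafOfModules.freeObjDesc
    { app := fun W => ↾fun s => gen f F s.1 s.2.1 s.2.2
      naturality := fun W W' h => by
        ext s
        exact (res_gen f F h.unop s.1 s.2.1 s.2.2).symm }

/-- The map to the inverse image, on finitely supported functions. -/
abbrev pullLin (W : C) : (Sym f F W →₀ O_C.obj.obj (op W)) →ₗ[O_C.obj.obj (op W)]
    ((pre O_C (f.pull.obj F)).obj (op W) : Type u) :=
  lin (freeToPull f F) (op W)

theorem freeToPull_sym {W : C} (V : D) (φ : W ⟶ f.fn.obj V) (x : (pre O_D F).obj (op V)) :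
    pullLin f F W (sym f F V φ x) = gen f F V φ x :=
  ModuleCat.freeDesc_apply (R := O_C.obj.obj (op W)) _ _

theorem relMap_freeToPull : relMap f F ≫ freeToPull f F = 0 := by
  refine PresheafOfModules.hom_ext fun W => ModuleCat.free_hom_ext fun p => ?_
  refine (congrArg (lin (freeToPull f F) W) (ModuleCat.freeDesc_apply _ p)).trans ?_
  obtain ⟨W⟩ := W
  change pullLin f F W (relVal f F p) = 0
  cases p with
  | add V φ x y =>
    simp only [relVal, map_sub, freeToPull_sym, gen_add]
    abel
  | smul V φ r x =>
    simp only [relVal, map_sub]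
    rw [← Finsupp.smul_single_one, map_smul, freeToPull_sym, freeToPull_sym, gen_smul, sub_self]
  | trans V V' φ a x => simp only [relVal, map_sub, freeToPull_sym, gen_trans, sub_self]

/-- The comparison of the model with the inverse image. -/
def modelToPull : model f F ⟶ pre O_C (f.pull.obj F) :=
  cokernel.desc _ (freeToPull f F) (relMap_freeToPull f F)

theorem modelToPull_mk {W : C} (V : D) (φ : W ⟶ f.fn.obj V) (x : (pre O_D F).obj (op V)) :
    lin (modelToPull f F) (op W) (mk f F V φ x) = gen f F V φ x :=
  (congr($(cokernel.π_desc _ (freeToPull f F) (relMap_freeToPull f F)).app (op W) (sym f F V φ x))).trans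
    (freeToPull_sym f F V φ x)

/-- The map into the direct image of the sheafified model. -/
def toPushModel : F ⟶ f.push.obj ((shF O_C).obj (model f F)) where
  val := PresheafOfModules.homMk
    { app := fun V => AddCommGrpCat.ofHom (AddMonoidHom.mk'
        (fun x : (pre O_D F).obj V => lin (shUnit O_C (model f F)) (op (f.fn.obj V.unop))
            (mk f F V.unop (𝟙 _) x))
        fun x y => (congrArg _ (mk_add f F V.unop (𝟙 _) x y)).trans (map_add _ _ _))
      naturality := fun {V V'} a => by
        ext x
        show lin (shUnit O_C (model f F)) (op (f.fn.obj V'.unop))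
            (mk f F V'.unop (𝟙 _) (res (pre O_D F) a.unop.op x)) =
          res (pre O_C ((shF O_C).obj (model f F))) (f.fn.map a.unop).op
            (lin (shUnit O_C (model f F)) (op (f.fn.obj V.unop)) (mk f F V.unop (𝟙 _) x))
        rw [mk_trans, ← lin_res, res_mk, Category.id_comp, Category.comp_id] }
    fun V r x => by
      refine (congrArg (lin (shUnit O_C (model f F)) (op (f.fn.obj V.unop)))
        (mk_smul f F V.unop (𝟙 _) r x)).trans ((map_smul _ _ _).trans ?_)
      exact congrArg (· • lin (shUnit O_C (model f F)) (op (f.fn.obj V.unop))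
        (mk f F V.unop (𝟙 _) x)) (ores_id O_C _)

/-- The map from the sheafified model to the inverse image. -/
def θ : (shF O_C).obj (model f F) ⟶ f.pull.obj F :=
  ((PresheafOfModules.sheafificationAdjunction (𝟙 (ModSite.ringSh O_C).obj)).homEquiv _ _).symm
    (modelToPull f F)

theorem shUnit_θ : shUnit O_C (model f F) ≫ (preFunctor O_C).map (θ f F) = modelToPull f F :=
  ((PresheafOfModules.sheafificationAdjunction (𝟙 (ModSite.ringSh O_C).obj)).homEquiv_unit _ _ _).symm.trans
    (Equiv.apply_symm_apply _ _)

/-- The map from the inverse image to the sheafified model. -/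
def κ : f.pull.obj F ⟶ (shF O_C).obj (model f F) := (f.adj.homEquiv _ _).symm (toPushModel f F)

theorem θ_shUnit_mk {W : C} (V : D) (φ : W ⟶ f.fn.obj V) (x : (pre O_D F).obj (op V)) :
    lin ((preFunctor O_C).map (θ f F)) (op W) (lin (shUnit O_C (model f F)) (op W) (mk f F V φ x)) =
      gen f F V φ x :=
  (congr(($(shUnit_θ f F)).app (op W) (mk f F V φ x))).trans (modelToPull_mk f F V φ x)

theorem κ_unitSec {V : D} (x : (pre O_D F).obj (op V)) :
    lin ((preFunctor O_C).map (κ f F)) (op (f.fn.obj V)) (unitSec f F x) =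
      lin (shUnit O_C (model f F)) (op (f.fn.obj V)) (mk f F V (𝟙 _) x) := by
  have h : (f.adj.homEquiv _ _) (κ f F) = toPushModel f F := Equiv.apply_symm_apply _ _
  rw [f.adj.homEquiv_unit] at h
  exact congr(($h).val.app (op V) x)

theorem κ_θ : κ f F ≫ θ f F = 𝟙 _ := by
  apply (f.adj.homEquiv _ _).injective
  rw [f.adj.homEquiv_naturality_right, f.adj.homEquiv_id]
  refine SheafOfModules.hom_ext (PresheafOfModules.hom_ext fun V =>
    ModuleCat.hom_ext (LinearMap.ext fun x => ?_))
  rw [show (f.adj.homEquiv _ _) (κ f F) = toPushModel f F from Equiv.apply_symm_apply _ _]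
  refine (θ_shUnit_mk f F V.unop (𝟙 _) x).trans ?_
  exact res_id (pre O_C (f.pull.obj F)) _

theorem θ_κ : θ f F ≫ κ f F = 𝟙 _ := by
  apply ((PresheafOfModules.sheafificationAdjunction (𝟙 (ModSite.ringSh O_C).obj)).homEquiv _ _).injective
  rw [Adjunction.homEquiv_naturality_right, Adjunction.homEquiv_id,
    show ((PresheafOfModules.sheafificationAdjunction (𝟙 (ModSite.ringSh O_C).obj)).homEquiv _ _)
      (θ f F) = modelToPull f F from Equiv.apply_symm_apply _ _]
  haveI : Epi (modelπ f F) := inferInstanceAs (Epi (cokernel.π (relMap f F)))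
  refine (cancel_epi (modelπ f F)).1 ?_
  refine PresheafOfModules.hom_ext fun W => ModuleCat.free_hom_ext fun s => ?_
  obtain ⟨W⟩ := W
  obtain ⟨V, φ, x⟩ := s
  show lin ((preFunctor O_C).map (κ f F)) (op W) (lin (modelToPull f F) (op W) (mk f F V φ x)) =
    lin (shUnit O_C (model f F)) (op W) (mk f F V φ x)
  rw [modelToPull_mk]
  refine (lin_res ((preFunctor O_C).map (κ f F)) φ.op _).trans ?_
  rw [κ_unitSec, ← lin_res, res_mk, Category.comp_id]

end Groth.Agent.PullFlat
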