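import Groth.Agent.PullFlat.Flat

/-!
# Localizing a morphism of ringed sites at an object
-/

set_option autoImplicit false
set_option linter.style.haveILetI false
set_option linter.unusedSectionVars false

universe u v

open CategoryTheory Limits Opposite

noncomputable section

namespace Groth.Agent.PullFlat

open Groth.Agent.ModTensor

variable {C D : Type u} [SmallCategory C] [SmallCategory D] {J : GrothendieckTopology C}
  {K : GrothendieckTopology D} {O_C : Sheaf J CommRingCat.{u}} {O_D : Sheaf K CommRingCat.{u}}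
  (f : ModSite.RMor O_C O_D) (X : D)

/-- The functor induced on objects over a given one is continuous. -/
theorem isContinuous_overPost :
    (Over.post (X := X) f.fn).IsContinuous (K.over X) (J.over (f.fn.obj X)) := by
  classical
  refine ⟨fun G Z S hS x hx => ?_⟩
  have hG : Presieve.IsSheaf (J.over (f.fn.obj X)) G.obj := (isSheaf_iff_isSheaf_of_type _ _).1 G.property
  let P := Over.post (X := X) f.fn
  have key : ∀ (Y : Over (f.fn.obj X)) (Z₁ Z₂ : Over X) (φ₁ : Y ⟶ P.obj Z₁) (φ₂ : Y ⟶ P.obj Z₂)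
      (a₁ : Z₁ ⟶ Z) (a₂ : Z₂ ⟶ Z) (h₁ : S a₁) (h₂ : S a₂), φ₁ ≫ P.map a₁ = φ₂ ≫ P.map a₂ →
      G.obj.map φ₁.op (x a₁ h₁) = G.obj.map φ₂.op (x a₂ h₂) := by
    intro Y Z₁ Z₂ φ₁ φ₂ a₁ a₂ h₁ h₂ h
    obtain ⟨p₁, hp₁⟩ : ∃ p : Y.left ⟶ f.fn.obj Z₁.left, φ₁.left = p := ⟨φ₁.left, rfl⟩
    obtain ⟨p₂, hp₂⟩ : ∃ p : Y.left ⟶ f.fn.obj Z₂.left, φ₂.left = p := ⟨φ₂.left, rfl⟩
    have hl : p₁ ≫ f.fn.map a₁.left = p₂ ≫ f.fn.map a₂.left :=
      ((congrArg (· ≫ f.fn.map a₁.left) hp₁).symm.trans (congrArg Over.Hom.left h)).trans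
        (congrArg (· ≫ f.fn.map a₂.left) hp₂)
    have hp₁' : p₁ ≫ f.fn.map Z₁.hom = Y.hom :=
      (congrArg (· ≫ f.fn.map Z₁.hom) hp₁).symm.trans (Over.w φ₁)
    obtain ⟨T, hT, hT'⟩ := exists_cover_pair J K f.fn p₁ p₂
    have hL : Loc J Y.left fun W g => ∃ (V : D) (ψ : W ⟶ f.fn.obj V) (b₁ : V ⟶ Z₁.left) (b₂ : V ⟶ Z₂.left),
        g ≫ p₁ = ψ ≫ f.fn.map b₁ ∧ g ≫ p₂ = ψ ≫ f.fn.map b₂ ∧
          b₁ ≫ a₁.left = b₂ ≫ a₂.left := by
      refine Loc.bind ⟨T, hT, hT'⟩ fun W g hg => ?_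
      obtain ⟨V, ψ, b₁, b₂, hb₁, hb₂⟩ := hg
      obtain ⟨T', hT', hT''⟩ := exists_cover_eq J K f.fn ψ (b₁ ≫ a₁.left) (b₂ ≫ a₂.left) (by
        rw [f.fn.map_comp, f.fn.map_comp, ← Category.assoc, ← hb₁, ← Category.assoc, ← hb₂,
          Category.assoc, Category.assoc, hl])
      refine ⟨T', hT', fun W' k hk => ?_⟩
      obtain ⟨V', ψ', c, hc, hc'⟩ := hT'' k hk
      refine ⟨V', ψ', c ≫ b₁, c ≫ b₂, ?_, ?_, by simpa only [Category.assoc] using hc'⟩
      · rw [Category.assoc, hb₁, ← Category.assoc, hc, Category.assoc, ← f.fn.map_comp]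
      · rw [Category.assoc, hb₂, ← Category.assoc, hc, Category.assoc, ← f.fn.map_comp]
    obtain ⟨R, hR, hR'⟩ := hL
    refine (hG.isSeparated ((Sieve.overEquiv Y).symm R)
      (J.overEquiv_symm_mem_over Y R hR)).ext fun W g hg => ?_
    obtain ⟨V, ψ, b₁, b₂, hb₁, hb₂, hb⟩ := hR' g.left hg
    let Z' : Over X := Over.mk (b₁ ≫ Z₁.hom)
    let β₁ : Z' ⟶ Z₁ := Over.homMk b₁
    have hb₂' : b₂ ≫ Z₂.hom = b₁ ≫ Z₁.hom := by
      rw [← Over.w a₁, ← Over.w a₂, ← Category.assoc, ← Category.assoc, hb]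
    let β₂ : Z' ⟶ Z₂ := Over.homMk b₂ hb₂'
    let ψ' : W ⟶ P.obj Z' := Over.homMk ψ (by
      show ψ ≫ f.fn.map (b₁ ≫ Z₁.hom) = W.hom
      rw [f.fn.map_comp, ← Category.assoc, ← hb₁, Category.assoc, hp₁', Over.w g])
    have e₁ : g ≫ φ₁ = ψ' ≫ P.map β₁ := Over.OverMorphism.ext ((congrArg (g.left ≫ ·) hp₁).trans hb₁)
    have e₂ : g ≫ φ₂ = ψ' ≫ P.map β₂ := Over.OverMorphism.ext ((congrArg (g.left ≫ ·) hp₂).trans hb₂)
    rw [← Functor.map_comp_apply, ← Functor.map_comp_apply, ← op_comp, ← op_comp, e₁, e₂, op_comp, op_comp,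
      Functor.map_comp_apply, Functor.map_comp_apply]
    exact congrArg _ (hx β₁ β₂ h₁ h₂ (Over.OverMorphism.ext hb))
  let T : Sieve (P.obj Z) := S.functorPushforward P
  have hT : T ∈ J.over (f.fn.obj X) (P.obj Z) := by
    rw [J.mem_over_iff]
    refine J.superset_covering (fun W g hg => ?_) (functorPushforward_mem J K f.fn _ ((K.mem_over_iff S).1 hS))
    obtain ⟨V, a, ψ, ha, rfl⟩ := hg
    rw [Sieve.overEquiv_iff]
    refine ⟨Over.mk (a ≫ Z.hom), Over.homMk a, Over.homMk ψ ?_, (Sieve.overEquiv_iff S a).1 ha,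
      Over.OverMorphism.ext rfl⟩
    show ψ ≫ f.fn.map (a ≫ Z.hom) = (ψ ≫ f.fn.map a) ≫ f.fn.map Z.hom
    rw [f.fn.map_comp, Category.assoc]
  choose Zc ac φc hc hfac using fun (Y : Over (f.fn.obj X)) (g : Y ⟶ P.obj Z) (hg : T g) => hg
  let y : Presieve.FamilyOfElements G.obj T.arrows := fun Y g hg =>
    G.obj.map (φc Y g hg).op (x (ac Y g hg) (hc Y g hg))
  have hy : y.Compatible := fun Y₁ Y₂ W k₁ k₂ g₁ g₂ h₁ h₂ h => by
    show G.obj.map k₁.op (G.obj.map (φc Y₁ g₁ h₁).op _) = G.obj.map k₂.op (G.obj.map (φc Y₂ g₂ h₂).op _)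
    rw [← Functor.map_comp_apply, ← Functor.map_comp_apply, ← op_comp, ← op_comp]
    refine key W _ _ _ _ _ _ (hc Y₁ g₁ h₁) (hc Y₂ g₂ h₂) ?_
    rw [Category.assoc, Category.assoc, ← hfac, ← hfac, h]
  refine ⟨(hG T hT).amalgamate y hy, fun W a ha => ?_, fun t ht => ?_⟩
  · have hm : T (P.map a) := ⟨W, a, 𝟙 _, ha, (Category.id_comp _).symm⟩
    refine ((hG T hT).valid_glue hy (P.map a) hm).trans ?_
    refine (key (P.obj W) _ _ (φc _ _ hm) (𝟙 _) _ a (hc _ _ hm) ha ?_).trans ?_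
    · rw [← hfac, Category.id_comp]
    · rw [op_id, Functor.map_id_apply]
  · refine (hG.isSeparated T hT).ext fun Y g hg => ?_
    refine Eq.trans ?_ ((hG T hT).valid_glue hy g hg).symm
    show G.obj.map g.op t = G.obj.map (φc Y g hg).op _
    conv_lhs => rw [hfac Y g hg, op_comp, Functor.map_comp_apply]
    exact congrArg _ (ht (ac Y g hg) (hc Y g hg))

theorem final_overPost : (Over.post (X := X) f.fn).Final := by
  refine ⟨fun Y => ?_⟩
  let T : StructuredArrow Y (Over.post (X := X) f.fn) :=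
    StructuredArrow.mk (Y := Over.mk (𝟙 X)) (Over.homMk Y.hom (by
      show Y.hom ≫ f.fn.map (𝟙 X) = Y.hom
      rw [f.fn.map_id, Category.comp_id]))
  haveI : Nonempty (StructuredArrow Y (Over.post (X := X) f.fn)) := ⟨T⟩
  have h : ∀ A : StructuredArrow Y (Over.post (X := X) f.fn), Nonempty (A ⟶ T) := fun A =>
    ⟨StructuredArrow.homMk (Over.homMk A.right.hom) (Over.OverMorphism.ext (Over.w A.hom))⟩
  exact zigzag_isConnected fun A B =>
    (Zigzag.of_hom (h A).some).trans (Zigzag.of_inv (h B).some)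

end Groth.Agent.PullFlat
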