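import Groth.Agent.PullFlat.Flat

/-!
# Inverse images commute with tensor products
-/

set_option autoImplicit false
set_option linter.style.haveILetI false
set_option linter.unusedSectionVars false

universe u v

open CategoryTheory Limits Opposite TensorProduct MonoidalCategory

noncomputable section

namespace Groth.Agent.PullFlat

open Groth.Agent.ModTensor

section Pair

variable {C : Type u} [SmallCategory C] {J : GrothendieckTopology C} (O : Sheaf J CommRingCat.{u})
  (M N : ModSite.Mod O)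

/-- The section of a tensor product given by two sections. -/
def pairT {U : C} (m : (pre O M).obj (op U)) (n : (pre O N).obj (op U)) :
    (pre O (tens O M N)).obj (op U) :=
  lin (shUnit O (pre O M ⊗ pre O N)) (op U) (m ⊗ₜ[O.obj.obj (op U)] n :
    ((pre O M).obj (op U) : Type u) ⊗[O.obj.obj (op U)] ((pre O N).obj (op U) : Type u))

theorem pairT_add_left {U : C} (m m' : (pre O M).obj (op U)) (n : (pre O N).obj (op U)) :
    pairT O M N (m + m') n = pairT O M N m n + pairT O M N m' n :=
  (congrArg _ (TensorProduct.add_tmul m m' n)).trans (map_add _ _ _)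

theorem pairT_add_right {U : C} (m : (pre O M).obj (op U)) (n n' : (pre O N).obj (op U)) :
    pairT O M N m (n + n') = pairT O M N m n + pairT O M N m n' :=
  (congrArg _ (TensorProduct.tmul_add m n n')).trans (map_add _ _ _)

theorem pairT_smul_left {U : C} (r : O.obj.obj (op U)) (m : (pre O M).obj (op U))
    (n : (pre O N).obj (op U)) : pairT O M N (r • m) n = r • pairT O M N m n :=
  (congrArg _ (TensorProduct.smul_tmul' r m n).symm).trans (map_smul _ r _)

theorem pairT_smul_right {U : C} (r : O.obj.obj (op U)) (m : (pre O M).obj (op U))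
    (n : (pre O N).obj (op U)) : pairT O M N m (r • n) = r • pairT O M N m n :=
  (congrArg _ (TensorProduct.tmul_smul r m n)).trans (map_smul _ r _)

theorem res_pairT {U U' : C} (g : U' ⟶ U) (m : (pre O M).obj (op U)) (n : (pre O N).obj (op U)) :
    res (pre O (tens O M N)) g.op (pairT O M N m n) =
      pairT O M N (res (pre O M) g.op m) (res (pre O N) g.op n) :=
  ((lin_res (shUnit O (pre O M ⊗ pre O N)) g.op _).symm).trans
    (congrArg _ (res_tmul (pre O M) (pre O N) g.op m n))

/-- Sections of tensor products are locally sums of pairs. -/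
theorem loc_sum_pairT {U : C} {ι : Type v} [Fintype ι] (τ : ι → (pre O (tens O M N)).obj (op U)) :
    Loc J U fun W g => ∃ (r : ι → ℕ) (m : ∀ i, Fin (r i) → (pre O M).obj (op W))
      (n : ∀ i, Fin (r i) → (pre O N).obj (op W)),
        ∀ i, res (pre O (tens O M N)) g.op (τ i) = ∑ j, pairT O M N (m i j) (n i j) := by
  classical
  haveI := ((J.W_iff_isLocallyBijective _).1 (W_shUnit O (pre O M ⊗ pre O N))).2
  have h : ∀ i, Loc J U fun W g => ∃ (r : ℕ) (m : Fin r → (pre O M).obj (op W))
      (n : Fin r → (pre O N).obj (op W)),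
      res (pre O (tens O M N)) g.op (τ i) = ∑ j, pairT O M N (m j) (n j) := fun i => by
    refine ⟨Presheaf.imageSieve ((PresheafOfModules.toPresheaf _).map (shUnit O (pre O M ⊗ pre O N))) (τ i),
      Presheaf.imageSieve_mem J ((PresheafOfModules.toPresheaf _).map (shUnit O (pre O M ⊗ pre O N)))
        (U := op U) (τ i), fun W g hg => ?_⟩
    obtain ⟨x, hx⟩ := hg
    change ((pre O M).obj (op W) : Type u) ⊗[O.obj.obj (op W)] ((pre O N).obj (op W) : Type u) at x
    obtain ⟨S, hS⟩ := TensorProduct.exists_finset x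
    let e := (Fintype.equivFin S).symm
    refine ⟨_, fun j => (e j).1.1, fun j => (e j).1.2, hx.symm.trans ?_⟩
    rw [e.sum_comp (fun s : S => pairT O M N s.1.1 s.1.2)]
    refine (congrArg (lin (shUnit O (pre O M ⊗ pre O N)) (op W)) hS).trans ((map_sum _ _ _).trans ?_)
    exact (Finset.sum_coe_sort S (fun p => pairT O M N p.1 p.2)).symm
  refine Loc.bind (Loc.forall_fintype h) fun W g hg => ?_
  choose r m n hmn using hg
  refine Loc.of_forall fun W' k => ⟨r, fun i j => res (pre O M) k.op (m i j),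
    fun i j => res (pre O N) k.op (n i j), fun i => ?_⟩
  rw [op_comp, res_comp, hmn, map_sum]
  exact Finset.sum_congr rfl fun j _ => res_pairT O M N k _ _

/-- Vanishing sums of pairs are locally trivial. -/
theorem loc_of_sum_pairT_eq_zero {U : C} {r : ℕ} (m : Fin r → (pre O M).obj (op U))
    (n : Fin r → (pre O N).obj (op U)) (h : ∑ j, pairT O M N (m j) (n j) = 0) :
    Loc J U fun W g => ∃ (l p : ℕ) (t : Fin l → (pre O N).obj (op W))
      (A : Fin r → Fin p → O.obj.obj (op W)) (A' : Fin l → Fin p → O.obj.obj (op W))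
      (y : Fin p → (pre O M).obj (op W)),
        (∀ j, res (pre O M) g.op (m j) = ∑ q, A j q • y q) ∧ (∀ i, ∑ q, A' i q • y q = 0) ∧
          ∀ q, ∑ j, A j q • res (pre O N) g.op (n j) + ∑ i, A' i q • t i = 0 := by
  haveI := ((J.W_iff_isLocallyBijective _).1 (W_shUnit O (pre O M ⊗ pre O N))).1
  let z : ((pre O M).obj (op U) : Type u) ⊗[O.obj.obj (op U)] ((pre O N).obj (op U) : Type u) :=
    ∑ j, m j ⊗ₜ[O.obj.obj (op U)] n j
  have hz : lin (shUnit O (pre O M ⊗ pre O N)) (op U) z = 0 :=
    ((map_sum _ _ _).trans h : lin (shUnit O (pre O M ⊗ pre O N)) (op U) z = 0)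
  refine Loc.bind ⟨_, zeroSieve_mem_of_isLocallyInjective (shUnit O (pre O M ⊗ pre O N)) J z hz,
    fun _ _ hg => hg⟩ fun W g hg => ?_
  refine Loc.of_forall fun W' k => ?_
  have h0 : ∑ j, (res (pre O M) (k ≫ g).op (m j)) ⊗ₜ[O.obj.obj (op W')] (res (pre O N) (k ≫ g).op (n j)) =
      (0 : ((pre O M).obj (op W') : Type u) ⊗[O.obj.obj (op W')] ((pre O N).obj (op W') : Type u)) := by
    refine Eq.trans ?_ ((congrArg (res (pre O M ⊗ pre O N) k.op) hg).trans (map_zero _))
    rw [← res_comp, ← op_comp]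
    exact ((map_sum (res (pre O M ⊗ pre O N) (k ≫ g).op) _ _).trans
      (Finset.sum_congr rfl fun j _ => res_tmul _ _ _ _ _)).symm
  have h1 := congrArg (TensorProduct.comm (O.obj.obj (op W')) ((pre O M).obj (op W'))
    ((pre O N).obj (op W'))) h0
  simp only [map_sum, map_zero, TensorProduct.comm_tmul] at h1
  exact exists_trivialization _ _ h1

end Pair

variable {C D : Type u} [SmallCategory C] [SmallCategory D] {J : GrothendieckTopology C}
  {K : GrothendieckTopology D} {O_C : Sheaf J CommRingCat.{u}} {O_D : Sheaf K CommRingCat.{u}}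
  (f : ModSite.RMor O_C O_D)

theorem res_gen_change (F : ModSite.Mod O_D) {W W' : C} {V V' : D} (k : W' ⟶ W) (ψ : W ⟶ f.fn.obj V)
    (ψ' : W' ⟶ f.fn.obj V') (a : V' ⟶ V) (h : k ≫ ψ = ψ' ≫ f.fn.map a) (x : (pre O_D F).obj (op V)) :
    res (pre O_C (f.pull.obj F)) k.op (gen f F V ψ x) = gen f F V' ψ' (res (pre O_D F) a.op x) := by
  rw [res_gen, gen_trans, h]

/-- A natural family of maps on the objects over a given one respects vanishing sums. -/
theorem transfer_eq_zero (F G : ModSite.Mod O_D) {W : C} {V : D} (ψ : W ⟶ f.fn.obj V)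
    (L : ∀ ⦃V' : D⦄, (V' ⟶ V) →
      ((pre O_D F).obj (op V') → (pre O_D G).obj (op V')))
    (hadd : ∀ ⦃V' : D⦄ (a : V' ⟶ V) (x y : (pre O_D F).obj (op V')), L a (x + y) = L a x + L a y)
    (hsmul : ∀ ⦃V' : D⦄ (a : V' ⟶ V) (r : O_D.obj.obj (op V')) (x : (pre O_D F).obj (op V')),
      L a (r • x) = r • L a x)
    (hres : ∀ ⦃V' : D⦄ (a : V' ⟶ V) (x : (pre O_D F).obj (op V)),
      L a (res (pre O_D F) a.op x) = res (pre O_D G) a.op (L (𝟙 V) x))
    {n : ℕ} (x : Fin n → (pre O_D F).obj (op V)) (e : Fin n → O_C.obj.obj (op W))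
    (h : ∑ i, e i • gen f F V ψ (x i) = 0) :
    ∑ i, e i • gen f G V ψ (L (𝟙 V) (x i)) = 0 := by
  refine eq_zero_of_loc _ _ ?_
  refine Loc.bind (loc_of_sum_gen_eq_zero f F ψ x e h) fun W₁ g hg => ?_
  obtain ⟨V₁, a, ψ₁, h₁, l, m, t, A, A', y, hy, hy', hA⟩ := hg
  refine Loc.of_forall fun W₂ k => ?_
  rw [op_comp, res_comp]
  refine (congrArg (res (pre O_C (f.pull.obj G)) k.op) ?_).trans (map_zero _)
  let Λ : (pre O_D F).obj (op V₁) →+ (pre O_D G).obj (op V₁) := AddMonoidHom.mk' (L a) (hadd a)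
  have hΛ : ∀ j, ∑ i, A i j • L a (res (pre O_D F) a.op (x i)) = -∑ r, A' r j • L a (t r) := fun j => by
    have h2 := congrArg Λ (hA j)
    rw [map_add, map_sum, map_sum, map_zero] at h2
    refine Eq.trans ?_ ((eq_neg_of_add_eq_zero_left h2).trans (congrArg Neg.neg
      (Finset.sum_congr rfl fun r _ => hsmul a (A' r j) (t r))))
    exact Finset.sum_congr rfl fun i _ => (hsmul a (A i j) _).symm
  calc res (pre O_C (f.pull.obj G)) g.op (∑ i, e i • gen f G V ψ (L (𝟙 V) (x i)))
      = ∑ j, y j • gen f G V₁ ψ₁ (∑ i, A i j • L a (res (pre O_D F) a.op (x i))) := by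
        simp only [map_sum, res_smul, res_gen_change f G g ψ ψ₁ a h₁, ← hres, gen_sum, gen_smul,
          Finset.smul_sum, smul_smul]
        rw [Finset.sum_comm]
        refine Finset.sum_congr rfl fun i _ => ?_
        rw [← Finset.sum_smul]
        refine congrArg (· • _) ((hy i).trans ?_)
        exact Finset.sum_congr rfl fun j _ => mul_comm _ _
    _ = 0 := by
        simp only [hΛ, ← Finset.sum_neg_distrib, gen_sum, ← neg_smul, gen_smul, map_neg,
          Finset.smul_sum, smul_smul]
        rw [Finset.sum_comm]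
        refine Finset.sum_eq_zero fun r _ => ?_
        rw [← Finset.sum_smul]
        refine (congrArg (· • _) ?_).trans (zero_smul _ _)
        simp only [mul_neg, Finset.sum_neg_distrib, neg_eq_zero]
        refine Eq.trans ?_ (hy' r)
        exact Finset.sum_congr rfl fun j _ => mul_comm _ _

variable (M N : ModSite.Mod O_D)

/-- Pairing with a fixed section on the right respects vanishing sums. -/
theorem transfer_right {W : C} {V : D} (ψ : W ⟶ f.fn.obj V) {n : ℕ} (x : Fin n → (pre O_D M).obj (op V))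
    (e : Fin n → O_C.obj.obj (op W)) (c : (pre O_D N).obj (op V))
    (h : ∑ i, e i • gen f M V ψ (x i) = 0) :
    ∑ i, e i • gen f (tens O_D M N) V ψ (pairT O_D M N (x i) c) = 0 := by
  have h1 := transfer_eq_zero f M (tens O_D M N) ψ
    (fun _ a y => pairT O_D M N y (res (pre O_D N) a.op c))
    (fun _ a x y => pairT_add_left O_D M N x y _) (fun _ a r x => pairT_smul_left O_D M N r x _)
    (fun _ a x => by
      rw [res_pairT, ← res_comp, ← op_comp, Category.comp_id]) x e h
  simpa only [op_id, res_id] using h1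

/-- Pairing with a fixed section on the left respects vanishing sums. -/
theorem transfer_left {W : C} {V : D} (ψ : W ⟶ f.fn.obj V) {n : ℕ} (x : Fin n → (pre O_D N).obj (op V))
    (e : Fin n → O_C.obj.obj (op W)) (c : (pre O_D M).obj (op V))
    (h : ∑ i, e i • gen f N V ψ (x i) = 0) :
    ∑ i, e i • gen f (tens O_D M N) V ψ (pairT O_D M N c (x i)) = 0 := by
  have h1 := transfer_eq_zero f N (tens O_D M N) ψ
    (fun _ a y => pairT O_D M N (res (pre O_D M) a.op c) y)
    (fun _ a x y => pairT_add_right O_D M N _ x y) (fun _ a r x => pairT_smul_right O_D M N r _ x)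
    (fun _ a x => by
      rw [res_pairT, ← res_comp, ← op_comp, Category.comp_id]) x e h
  simpa only [op_id, res_id] using h1

/-- The structure map of a morphism of ringed sites on sections. -/
abbrev shAt (V : D) : O_D.obj.obj (op V) →+* O_C.obj.obj (op (f.fn.obj V)) :=
  (f.sharp.hom.app (op V)).hom

theorem unitSec_add (F : ModSite.Mod O_D) {V : D} (x y : (pre O_D F).obj (op V)) :
    unitSec f F (x + y) = unitSec f F x + unitSec f F y :=
  map_add (lin ((preFunctor O_D).map (f.adj.unit.app F)) (op V)) x y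

theorem unitSec_smul (F : ModSite.Mod O_D) {V : D} (r : O_D.obj.obj (op V)) (x : (pre O_D F).obj (op V)) :
    unitSec f F (r • x) = shAt f V r • unitSec f F x :=
  map_smul (lin ((preFunctor O_D).map (f.adj.unit.app F)) (op V)) r x

theorem unitSec_res (F : ModSite.Mod O_D) {V V' : D} (a : V' ⟶ V) (x : (pre O_D F).obj (op V)) :
    unitSec f F (res (pre O_D F) a.op x) = res (pre O_C (f.pull.obj F)) (f.fn.map a).op (unitSec f F x) :=
  lin_res ((preFunctor O_D).map (f.adj.unit.app F)) a.op x

/-- The pairing on sections over the image of an object. -/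
def pairHom (V : D) :
    ((pre O_D M).obj (op V) : Type u) ⊗[O_D.obj.obj (op V)] ((pre O_D N).obj (op V) : Type u) →+
      (pre O_C (tens O_C (f.pull.obj M) (f.pull.obj N))).obj (op (f.fn.obj V)) :=
  TensorProduct.liftAddHom
    (AddMonoidHom.mk' (fun m => AddMonoidHom.mk'
        (fun n => pairT O_C (f.pull.obj M) (f.pull.obj N) (unitSec f M m) (unitSec f N n))
        fun n n' => (congrArg (pairT O_C _ _ _) (unitSec_add f N n n')).trans
          (pairT_add_right O_C _ _ _ _ _))
      fun m m' => AddMonoidHom.ext fun n =>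
        (congrArg (fun a => pairT O_C (f.pull.obj M) (f.pull.obj N) a (unitSec f N n))
          (unitSec_add f M m m')).trans (pairT_add_left O_C _ _ _ _ _))
    fun r m n => by
      show pairT O_C _ _ (unitSec f M (r • m)) (unitSec f N n) =
        pairT O_C _ _ (unitSec f M m) (unitSec f N (r • n))
      rw [unitSec_smul, unitSec_smul, pairT_smul_left, pairT_smul_right]

theorem pairHom_tmul (V : D) (m : (pre O_D M).obj (op V)) (n : (pre O_D N).obj (op V)) :
    pairHom f M N V (m ⊗ₜ n) = pairT O_C _ _ (unitSec f M m) (unitSec f N n) :=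
  rfl

theorem pairHom_smul {V : D} (r : O_D.obj.obj (op V))
    (z : ((pre O_D M).obj (op V) : Type u) ⊗[O_D.obj.obj (op V)] ((pre O_D N).obj (op V) : Type u)) :
    pairHom f M N V (r • z) = shAt f V r • pairHom f M N V z := by
  induction z using TensorProduct.induction_on with
  | zero => rw [smul_zero, map_zero, smul_zero]
  | tmul m n => rw [TensorProduct.smul_tmul', pairHom_tmul, pairHom_tmul, unitSec_smul, pairT_smul_left]
  | add z₁ z₂ h₁ h₂ => rw [smul_add, map_add, h₁, h₂, map_add, smul_add]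

theorem pairHom_res {V V' : D} (a : V' ⟶ V)
    (z : ((pre O_D M).obj (op V) : Type u) ⊗[O_D.obj.obj (op V)] ((pre O_D N).obj (op V) : Type u)) :
    pairHom f M N V' (res (pre O_D M ⊗ pre O_D N) a.op z) =
      res (pre O_C (tens O_C (f.pull.obj M) (f.pull.obj N))) (f.fn.map a).op (pairHom f M N V z) := by
  induction z using TensorProduct.induction_on with
  | zero => exact (congrArg _ (map_zero _)).trans ((map_zero _).trans ((congrArg _ (map_zero _)).trans (map_zero _)).symm)
  | tmul m n =>
    refine (congrArg _ (res_tmul (pre O_D M) (pre O_D N) a.op m n)).trans ?_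
    rw [pairHom_tmul, pairHom_tmul, res_pairT]
    exact congrArg₂ _ (unitSec_res f M a m) (unitSec_res f N a n)
  | add z₁ z₂ h₁ h₂ =>
    refine (congrArg _ (map_add (res (pre O_D M ⊗ pre O_D N) a.op) z₁ z₂)).trans ?_
    exact (map_add (pairHom f M N V') _ _).trans ((congrArg₂ (· + ·) h₁ h₂).trans
      ((map_add (res (pre O_C (tens O_C (f.pull.obj M) (f.pull.obj N))) (f.fn.map a).op) _ _).symm.trans
        (congrArg _ (map_add (pairHom f M N V) z₁ z₂).symm)))

/-- The pairing into the direct image of the tensor product of inverse images. -/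
def pairPush : pre O_D M ⊗ pre O_D N ⟶
    pre O_D (f.push.obj (tens O_C (f.pull.obj M) (f.pull.obj N))) :=
  PresheafOfModules.homMk
    { app := fun V => AddCommGrpCat.ofHom (pairHom f M N V.unop)
      naturality := fun {V V'} a => by
        refine AddCommGrpCat.hom_ext (AddMonoidHom.ext fun z => ?_)
        exact pairHom_res f M N a.unop z }
    fun V r z => pairHom_smul f M N r z

/-- The comparison of inverse images of tensor products. -/
def tensorCmp : f.pull.obj (tens O_D M N) ⟶ tens O_C (f.pull.obj M) (f.pull.obj N) :=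
  (f.adj.homEquiv _ _).symm
    (((PresheafOfModules.sheafificationAdjunction (𝟙 (ModSite.ringSh O_D).obj)).homEquiv _ _).symm
      (pairPush f M N))

theorem tensorCmp_gen {W : C} {V : D} (ψ : W ⟶ f.fn.obj V) (m : (pre O_D M).obj (op V))
    (n : (pre O_D N).obj (op V)) :
    lin ((preFunctor O_C).map (tensorCmp f M N)) (op W) (gen f (tens O_D M N) V ψ (pairT O_D M N m n)) =
      pairT O_C (f.pull.obj M) (f.pull.obj N) (gen f M V ψ m) (gen f N V ψ n) := by
  refine (lin_res ((preFunctor O_C).map (tensorCmp f M N)) ψ.op _).trans ?_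
  let adj := PresheafOfModules.sheafificationAdjunction (𝟙 (ModSite.ringSh O_D).obj)
  have h : f.adj.homEquiv _ _ (tensorCmp f M N) = (adj.homEquiv _ _).symm (pairPush f M N) :=
    Equiv.apply_symm_apply _ _
  rw [f.adj.homEquiv_unit] at h
  have h' : shUnit O_D (pre O_D M ⊗ pre O_D N) ≫
      (preFunctor O_D).map ((adj.homEquiv _ _).symm (pairPush f M N)) = pairPush f M N :=
    (adj.homEquiv_unit _ _ _).symm.trans (Equiv.apply_symm_apply _ _)
  refine (congrArg (res (pre O_C (tens O_C (f.pull.obj M) (f.pull.obj N))) ψ.op) ?_).trans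
    (res_pairT O_C (f.pull.obj M) (f.pull.obj N) ψ (unitSec f M m) (unitSec f N n))
  refine (congr(($h).val.app (op V) (pairT O_D M N m n))).trans ?_
  exact congr(($h').app (op V) (m ⊗ₜ[O_D.obj.obj (op V)] n :
    ((pre O_D M).obj (op V) : Type u) ⊗[O_D.obj.obj (op V)] ((pre O_D N).obj (op V) : Type u)))

/-- Sections of the inverse image of a tensor product are locally combinations of pairs. -/
theorem loc_exists_gen_pair {U : C} (s : (pre O_C (f.pull.obj (tens O_D M N))).obj (op U)) :
    Loc J U fun W g => ∃ (V : D) (ψ : W ⟶ f.fn.obj V) (r : ℕ) (m : Fin r → (pre O_D M).obj (op V))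
      (n : Fin r → (pre O_D N).obj (op V)) (e : Fin r → O_C.obj.obj (op W)),
        res (pre O_C _) g.op s = ∑ j, e j • gen f (tens O_D M N) V ψ (pairT O_D M N (m j) (n j)) := by
  classical
  refine Loc.bind (loc_exists_gen f (tens O_D M N) (fun _ : PUnit.{1} => s)) fun W g hg => ?_
  obtain ⟨V, ψ, k, x, E, hE⟩ := hg
  obtain ⟨S, hS, hS'⟩ := loc_sum_pairT O_D M N x
  refine Loc.bind (loc_of_covering f ψ hS) fun W₁ g₁ hg₁ => ?_
  obtain ⟨V₁, a, ψ₁, h₁, ha⟩ := hg₁
  obtain ⟨r, m, n, hmn⟩ := hS' a ha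
  refine Loc.of_forall fun W₂ g₂ => ?_
  let e := (Fintype.equivFin (Σ i, Fin (r i))).symm
  refine ⟨V₁, g₂ ≫ ψ₁, _, fun j => m (e j).1 (e j).2, fun j => n (e j).1 (e j).2,
    fun j => ores O_C (g₂ ≫ g₁).op (E PUnit.unit (e j).1), ?_⟩
  rw [e.sum_comp (fun z : Σ i, Fin (r i) => ores O_C (g₂ ≫ g₁).op (E PUnit.unit z.1) •
    gen f (tens O_D M N) V₁ (g₂ ≫ ψ₁) (pairT O_D M N (m z.1 z.2) (n z.1 z.2))),
    Fintype.sum_sigma, op_comp, res_comp, hE PUnit.unit, map_sum]
  refine Finset.sum_congr rfl fun i _ => ?_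
  rw [res_smul, res_gen_change f _ (g₂ ≫ g₁) ψ (g₂ ≫ ψ₁) a
    (by rw [Category.assoc, h₁, Category.assoc]), hmn, gen_sum, Finset.smul_sum]

theorem isIso_tensorCmp : IsIso (tensorCmp f M N) := by
  classical
  haveI : Mono (tensorCmp f M N) := by
    haveI : Mono ((SheafOfModules.forget (ModSite.ringSh O_C)).map (tensorCmp f M N)) :=
      PresheafOfModules.mono_of_injective fun {X} a b_ hab => by
        obtain ⟨U⟩ := X
        refine sub_eq_zero.1 (eq_zero_of_loc _ (a - b_) ?_)
        refine Loc.bind (loc_exists_gen_pair f M N (a - b_)) fun W g hg => ?_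
        obtain ⟨V, ψ, r, m, n, e, he⟩ := hg
        have h0 : ∑ j, pairT O_C (f.pull.obj M) (f.pull.obj N) (e j • gen f M V ψ (m j)) (gen f N V ψ (n j)) = 0 := by
          have h2 := congrArg (lin ((preFunctor O_C).map (tensorCmp f M N)) (op W)) he
          rw [lin_res, map_sub, show lin ((preFunctor O_C).map (tensorCmp f M N)) (op U) a =
            lin ((preFunctor O_C).map (tensorCmp f M N)) (op U) b_ from hab, sub_self, map_zero, map_sum] at h2
          refine Eq.trans ?_ h2.symm
          simp only [map_smul, tensorCmp_gen, pairT_smul_left]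
        refine Loc.bind (loc_of_sum_pairT_eq_zero O_C _ _ _ _ h0) fun W₁ g₁ hg₁ => ?_
        obtain ⟨l, p, t, A, A', y, hy, hy', hA⟩ := hg₁
        refine Loc.bind (loc_exists_gen f M y) fun W₂ g₂ hg₂ => ?_
        obtain ⟨V₂, ψ₂, c, x, d, hd⟩ := hg₂
        refine Loc.bind (loc_exists_gen f N (fun i => res (pre O_C (f.pull.obj N)) g₂.op (t i)))
          fun W₃ g₃ hg₃ => ?_
        obtain ⟨V₃, ψ₃, c', w, b, hb⟩ := hg₃
        refine Loc.bind (loc_nodes f ({⟨V, (g₃ ≫ g₂ ≫ g₁) ≫ ψ⟩, ⟨V₂, g₃ ≫ ψ₂⟩, ⟨V₃, ψ₃⟩} : Finset (Node f W₃)))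
          fun W₄ g₄ hg₄ => ?_
        obtain ⟨V₄, φ, hφ⟩ := hg₄
        obtain ⟨α, hα⟩ := hφ ⟨V, (g₃ ≫ g₂ ≫ g₁) ≫ ψ⟩ (Finset.mem_insert_self _ _)
        obtain ⟨β, hβ⟩ := hφ ⟨V₂, g₃ ≫ ψ₂⟩ (Finset.mem_insert_of_mem (Finset.mem_insert_self _ _))
        obtain ⟨γ, hγ⟩ := hφ ⟨V₃, ψ₃⟩
          (Finset.mem_insert_of_mem (Finset.mem_insert_of_mem (Finset.mem_singleton_self _)))
        refine Loc.of_forall fun W₅ g₅ => ?_
        let χ := g₅ ≫ g₄ ≫ g₃ ≫ g₂
        let φ' := g₅ ≫ φ
        let T := tens O_D M N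
        let x' : Fin c → (pre O_D M).obj (op V₄) := fun q => res (pre O_D M) β.op (x q)
        let w' : Fin c' → (pre O_D N).obj (op V₄) := fun q => res (pre O_D N) γ.op (w q)
        let m' : Fin r → (pre O_D M).obj (op V₄) := fun j => res (pre O_D M) α.op (m j)
        let n' : Fin r → (pre O_D N).obj (op V₄) := fun j => res (pre O_D N) α.op (n j)
        let δ : Fin p → Fin c → O_C.obj.obj (op W₅) := fun q i => ores O_C (g₅ ≫ g₄ ≫ g₃).op (d q i)
        let ε : Fin l → Fin c' → O_C.obj.obj (op W₅) := fun i q => ores O_C (g₅ ≫ g₄).op (b i q)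
        let Ac : Fin r → Fin p → O_C.obj.obj (op W₅) := fun j q => ores O_C χ.op (A j q)
        let Ac' : Fin l → Fin p → O_C.obj.obj (op W₅) := fun i q => ores O_C χ.op (A' i q)
        have hy₅ : ∀ q, res (pre O_C (f.pull.obj M)) χ.op (y q) = ∑ i, δ q i • gen f M V₄ φ' (x' i) := fun q => by
          rw [show χ = (g₅ ≫ g₄ ≫ g₃) ≫ g₂ by simp [χ], op_comp, res_comp, hd, map_sum]
          refine Finset.sum_congr rfl fun i _ => ?_
          rw [res_smul, res_gen_change f M (g₅ ≫ g₄ ≫ g₃) ψ₂ φ' β
            (by simp only [φ', Category.assoc]; rw [hβ])]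
        have ht₅ : ∀ i, res (pre O_C (f.pull.obj N)) χ.op (t i) = ∑ q, ε i q • gen f N V₄ φ' (w' q) := fun i => by
          rw [show χ = ((g₅ ≫ g₄) ≫ g₃) ≫ g₂ by simp [χ], op_comp, res_comp, op_comp, res_comp, hb, map_sum]
          refine Finset.sum_congr rfl fun q _ => ?_
          rw [res_smul, res_gen_change f N (g₅ ≫ g₄) ψ₃ φ' γ
            (by simp only [φ', Category.assoc]; rw [hγ])]
        have hψ₅ : (χ ≫ g₁) ≫ ψ = φ' ≫ f.fn.map α := by
          simp only [χ, φ', Category.assoc]
          rw [← hα]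
          simp
        have h1 : ∀ j, ores O_C (χ ≫ g₁).op (e j) • gen f T V₄ φ' (pairT O_D M N (m' j) (n' j)) =
            ∑ q, ∑ i, (Ac j q * δ q i) • gen f T V₄ φ' (pairT O_D M N (x' i) (n' j)) := by
          intro j
          have hrel : ores O_C (χ ≫ g₁).op (e j) • gen f M V₄ φ' (m' j) =
              ∑ q, ∑ i, (Ac j q * δ q i) • gen f M V₄ φ' (x' i) := by
            have h3 := congrArg (res (pre O_C (f.pull.obj M)) χ.op) (hy j)
            rw [← res_comp, ← op_comp, map_sum] at h3
            rw [res_smul, res_gen_change f M (χ ≫ g₁) ψ φ' α hψ₅] at h3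
            refine h3.trans (Finset.sum_congr rfl fun q _ => ?_)
            rw [res_smul, hy₅, Finset.smul_sum]
            exact Finset.sum_congr rfl fun i _ => smul_smul _ _ _
          have key := transfer_right f M N φ'
            (Fin.cons (m' j) x')
            (Fin.cons (ores O_C (χ ≫ g₁).op (e j)) fun i => -∑ q, Ac j q * δ q i) (n' j) (by
              rw [Fin.sum_univ_succ]
              simp only [Fin.cons_zero, Fin.cons_succ, neg_smul, Finset.sum_neg_distrib,
                Finset.sum_smul]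
              rw [← sub_eq_add_neg, sub_eq_zero, hrel, Finset.sum_comm])
          rw [Fin.sum_univ_succ] at key
          simp only [Fin.cons_zero, Fin.cons_succ, neg_smul, Finset.sum_neg_distrib, Finset.sum_smul,
            ← sub_eq_add_neg, sub_eq_zero] at key
          rw [key, Finset.sum_comm]
        have h2 : ∀ i q', ∑ q, ∑ i', (Ac' i q * δ q i') • gen f T V₄ φ' (pairT O_D M N (x' i') (w' q')) = 0 := by
          intro i q'
          have h3 := congrArg (res (pre O_C (f.pull.obj M)) χ.op) (hy' i)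
          simp only [map_sum, map_zero, res_smul, hy₅, Finset.smul_sum, smul_smul] at h3
          rw [Finset.sum_comm] at h3
          simp only [← Finset.sum_smul] at h3
          have key := transfer_right f M N φ' x' _ (w' q') h3
          simp only [Finset.sum_smul] at key
          rw [Finset.sum_comm]
          exact key
        have h4 : ∀ q i', ∑ j, Ac j q • gen f T V₄ φ' (pairT O_D M N (x' i') (n' j)) =
            -∑ i, ∑ q', (Ac' i q * ε i q') • gen f T V₄ φ' (pairT O_D M N (x' i') (w' q')) := by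
          intro q i'
          have h3 := congrArg (res (pre O_C (f.pull.obj N)) χ.op) (hA q)
          simp only [map_add, map_sum, map_zero, res_smul, ht₅, Finset.smul_sum, smul_smul, ← res_comp,
            ← op_comp, res_gen_change f N (χ ≫ g₁) ψ φ' α hψ₅] at h3
          rw [Finset.sum_comm (s := (Finset.univ : Finset (Fin l)))] at h3
          simp only [← Finset.sum_smul] at h3
          have key := transfer_left f M N φ' (Fin.append n' w')
            (Fin.append (fun j => Ac j q) fun q' => ∑ i, Ac' i q * ε i q') (x' i') (by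
              rw [Fin.sum_univ_add]
              simpa only [Fin.append_left, Fin.append_right] using h3)
          rw [Fin.sum_univ_add] at key
          simp only [Fin.append_left, Fin.append_right, Finset.sum_smul] at key
          rw [eq_neg_of_add_eq_zero_left key, Finset.sum_comm]
        show res (pre O_C _) (((((g₅ ≫ g₄) ≫ g₃) ≫ g₂) ≫ g₁) ≫ g).op (a - b_) = 0
        rw [show ((((g₅ ≫ g₄) ≫ g₃) ≫ g₂) ≫ g₁) ≫ g = (χ ≫ g₁) ≫ g by simp [χ], op_comp, res_comp, he,
          map_sum]
        calc ∑ j, res (pre O_C _) (χ ≫ g₁).op (e j • gen f T V ψ (pairT O_D M N (m j) (n j)))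
            = ∑ j, ∑ q, ∑ i, (Ac j q * δ q i) • gen f T V₄ φ' (pairT O_D M N (x' i) (n' j)) := by
              refine Finset.sum_congr rfl fun j _ => ?_
              rw [res_smul, res_gen_change f T (χ ≫ g₁) ψ φ' α hψ₅, res_pairT]
              exact h1 j
          _ = ∑ q, ∑ i', δ q i' • ∑ j, Ac j q • gen f T V₄ φ' (pairT O_D M N (x' i') (n' j)) := by
              rw [Finset.sum_comm]
              refine Finset.sum_congr rfl fun q _ => ?_
              rw [Finset.sum_comm]
              simp only [Finset.smul_sum, smul_smul, mul_comm]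
          _ = 0 := by
              simp only [h4, smul_neg, Finset.sum_neg_distrib, neg_eq_zero, Finset.smul_sum, smul_smul]
              conv_lhs => arg 2; ext q; rw [Finset.sum_comm]
              rw [Finset.sum_comm]
              refine Finset.sum_eq_zero fun i _ => ?_
              conv_lhs => arg 2; ext q; rw [Finset.sum_comm]
              rw [Finset.sum_comm]
              refine Finset.sum_eq_zero fun q' _ => ?_
              refine Eq.trans ?_ ((congrArg (ε i q' • ·) (h2 i q')).trans (smul_zero _))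
              simp only [Finset.smul_sum, smul_smul]
              refine Finset.sum_congr rfl fun q _ => Finset.sum_congr rfl fun i' _ => ?_
              congr 1
              ring
    exact (SheafOfModules.forget (ModSite.ringSh O_C)).mono_of_mono_map inferInstance
  haveI : Epi (tensorCmp f M N) := by
    haveI : Sheaf.IsLocallySurjective ((SheafOfModules.toSheaf (ModSite.ringSh O_C)).map (tensorCmp f M N)) := by
      refine ⟨fun {U} s => ?_⟩
      suffices h : Loc J U fun W g => (Presheaf.imageSieve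
          ((SheafOfModules.toSheaf (ModSite.ringSh O_C)).map (tensorCmp f M N)).hom s).arrows g by
        obtain ⟨S, hS, h⟩ := h
        exact J.superset_covering (fun W g hg => h g hg) hS
      let s₀ : (pre O_C (tens O_C (f.pull.obj M) (f.pull.obj N))).obj (op U) := s
      refine Loc.bind (loc_sum_pairT O_C (f.pull.obj M) (f.pull.obj N) (fun _ : PUnit.{1} => s₀)) fun W g hg => ?_
      obtain ⟨r, μ, ν, hμν⟩ := hg
      refine Loc.bind (loc_exists_gen f M (μ PUnit.unit)) fun W₁ g₁ hg₁ => ?_
      obtain ⟨V₁, ψ₁, c, x, d, hd⟩ := hg₁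
      refine Loc.bind (loc_exists_gen f N fun j => res (pre O_C (f.pull.obj N)) g₁.op (ν PUnit.unit j))
        fun W₂ g₂ hg₂ => ?_
      obtain ⟨V₂, ψ₂, c', w, b, hb⟩ := hg₂
      refine Loc.bind (loc_nodes f ({⟨V₁, g₂ ≫ ψ₁⟩, ⟨V₂, ψ₂⟩} : Finset (Node f W₂))) fun W₃ g₃ hg₃ => ?_
      obtain ⟨V₃, φ, hφ⟩ := hg₃
      obtain ⟨α, hα⟩ := hφ ⟨V₁, g₂ ≫ ψ₁⟩ (Finset.mem_insert_self _ _)
      obtain ⟨β, hβ⟩ := hφ ⟨V₂, ψ₂⟩ (Finset.mem_insert_of_mem (Finset.mem_singleton_self _))
      refine Loc.of_forall fun W₄ g₄ => ?_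
      let φ' := g₄ ≫ φ
      let X : (pre O_C (f.pull.obj (tens O_D M N))).obj (op W₄) :=
        ∑ j, ∑ i, ∑ q, (ores O_C (g₄ ≫ g₃ ≫ g₂).op (d j i) * ores O_C (g₄ ≫ g₃).op (b j q)) •
          gen f (tens O_D M N) V₃ φ' (pairT O_D M N (res (pre O_D M) α.op (x i)) (res (pre O_D N) β.op (w q)))
      suffices hX : lin ((preFunctor O_C).map (tensorCmp f M N)) (op W₄) X =
          res (pre O_C (tens O_C (f.pull.obj M) (f.pull.obj N))) ((((g₄ ≫ g₃) ≫ g₂) ≫ g₁) ≫ g).op s₀ from ⟨X, hX⟩
      simp only [X]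
      rw [show res (pre O_C (tens O_C (f.pull.obj M) (f.pull.obj N))) ((((g₄ ≫ g₃) ≫ g₂) ≫ g₁) ≫ g).op s₀ =
          res (pre O_C (tens O_C (f.pull.obj M) (f.pull.obj N))) (((g₄ ≫ g₃) ≫ g₂) ≫ g₁).op
            (res (pre O_C (tens O_C (f.pull.obj M) (f.pull.obj N))) g.op s₀) by rw [← res_comp, ← op_comp],
        hμν PUnit.unit, map_sum, map_sum]
      refine Finset.sum_congr rfl fun j _ => ?_
      rw [res_pairT,
        show res (pre O_C (f.pull.obj M)) (((g₄ ≫ g₃) ≫ g₂) ≫ g₁).op (μ PUnit.unit j) =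
          res (pre O_C (f.pull.obj M)) ((g₄ ≫ g₃) ≫ g₂).op (∑ q, d j q • gen f M V₁ ψ₁ (x q)) by
            rw [← hd, ← res_comp, ← op_comp],
        show res (pre O_C (f.pull.obj N)) (((g₄ ≫ g₃) ≫ g₂) ≫ g₁).op (ν PUnit.unit j) =
          res (pre O_C (f.pull.obj N)) (g₄ ≫ g₃).op (∑ q, b j q • gen f N V₂ ψ₂ (w q)) by
            rw [← hb, ← res_comp, ← res_comp, ← op_comp, ← op_comp],
        show g₄ ≫ g₃ ≫ g₂ = (g₄ ≫ g₃) ≫ g₂ by simp]
      simp only [map_sum, map_smul, tensorCmp_gen, res_smul,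
        res_gen_change f M ((g₄ ≫ g₃) ≫ g₂) ψ₁ φ' α (by simp only [φ', Category.assoc]; rw [hα]),
        res_gen_change f N (g₄ ≫ g₃) ψ₂ φ' β (by simp only [φ', Category.assoc]; rw [hβ])]
      symm
      have hL : ∀ {κ : Type} (s' : Finset κ) (F' : κ → (pre O_C (f.pull.obj M)).obj (op W₄)) (G' : (pre O_C (f.pull.obj N)).obj (op W₄)),
          pairT O_C _ _ (∑ i ∈ s', F' i) G' = ∑ i ∈ s', pairT O_C _ _ (F' i) G' := fun s' F' G' =>
        map_sum (AddMonoidHom.mk' (fun a => pairT O_C _ _ a G') fun a a' => pairT_add_left O_C _ _ a a' G') F' s'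
      have hR : ∀ {κ : Type} (s' : Finset κ) (F' : (pre O_C (f.pull.obj M)).obj (op W₄)) (G' : κ → (pre O_C (f.pull.obj N)).obj (op W₄)),
          pairT O_C _ _ F' (∑ i ∈ s', G' i) = ∑ i ∈ s', pairT O_C _ _ F' (G' i) := fun s' F' G' =>
        map_sum (AddMonoidHom.mk' (fun a => pairT O_C _ _ F' a) fun a a' => pairT_add_right O_C _ _ F' a a') G' s'
      simp only [hL, hR, pairT_smul_left, pairT_smul_right, smul_smul, Finset.smul_sum, mul_comm]
    haveI : Epi ((SheafOfModules.toSheaf (ModSite.ringSh O_C)).map (tensorCmp f M N)) :=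
      (Sheaf.isLocallySurjective_iff_epi' AddCommGrpCat.{u} _).1 inferInstance
    exact (SheafOfModules.toSheaf (ModSite.ringSh O_C)).epi_of_epi_map inferInstance
  exact isIso_of_mono_of_epi _

/-- Inverse images commute with tensor products. -/
def pullTensorIso : tens O_C (f.pull.obj M) (f.pull.obj N) ≅ f.pull.obj (tens O_D M N) :=
  haveI := isIso_tensorCmp f M N
  (asIso (tensorCmp f M N)).symm

end Groth.Agent.PullFlat
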